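import Groth.Agent.GIT36.Criterion
import Groth.Agent.GIT36.Destab

/-!
# Roots of binary forms and instability
-/

set_option autoImplicit false

noncomputable section

open MvPolynomial

namespace Groth.Agent.GIT36

universe u v

/-- the weight of a binary monomial -/
theorem eq_single_add (e : Fin 2 →₀ ℕ) : e = Finsupp.single 0 (e 0) + Finsupp.single 1 (e 1) := by
  ext i
  fin_cases i <;> simp

variable {k : Type u} [Field k] {m : ℕ}

theorem lin_eq (g : Matrix (Fin 2) (Fin 2) k) (i : Fin 2) :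
    lin g i = C (g i 0) * X 0 + C (g i 1) * X 1 := by
  rw [lin, Fin.sum_univ_two]

theorem linear_eq {ℓ : MvPolynomial (Fin 2) k} (hℓ : ℓ.IsHomogeneous 1) :
    ℓ = C (coeff (Finsupp.single 0 1) ℓ) * X 0 + C (coeff (Finsupp.single 1 1) ℓ) * X 1 := by
  classical
  refine MvPolynomial.ext _ _ fun e => ?_
  by_cases he : e.degree = 1
  · have h2 : e 0 + e 1 = 1 := by
      have h3 := he
      rwa [Finsupp.degree_eq_sum, Fin.sum_univ_two] at h3
    have hcases : e = Finsupp.single 0 1 ∨ e = Finsupp.single 1 1 := by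
      rcases Nat.eq_zero_or_pos (e 0) with h | h
      · right
        rw [eq_single_add e, h, show e 1 = 1 from by omega]
        simp
      · left
        rw [eq_single_add e, show e 0 = 1 from by omega, show e 1 = 0 from by omega]
        simp
    rcases hcases with rfl | rfl <;>
      simp [coeff_X', coeff_C_mul, Finsupp.single_eq_single_iff]
  · rw [hℓ.coeff_eq_zero he]
    refine (IsHomogeneous.coeff_eq_zero ?_ he).symm
    exact ((isHomogeneous_X k (0 : Fin 2)).C_mul _).add ((isHomogeneous_X k (1 : Fin 2)).C_mul _)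

/-- a non-zero linear form can be moved to a multiple of the second variable -/
theorem exists_move {ℓ : MvPolynomial (Fin 2) k} (hℓ : ℓ.IsHomogeneous 1) (hℓ0 : ℓ ≠ 0) :
    ∃ (M : Matrix (Fin 2) (Fin 2) k) (c : k), M.det = 1 ∧ sub M ℓ = C c * X 1 := by
  set α := coeff (Finsupp.single 0 1) ℓ
  set β := coeff (Finsupp.single 1 1) ℓ
  have h := linear_eq hℓ
  by_cases hβ : β = 0
  · refine ⟨!![0, -1; 1, 0], -α, by simp [Matrix.det_fin_two], ?_⟩
    rw [h]
    simp [sub_X, lin_eq, algHom_C, algebraMap_eq, show coeff (Finsupp.single 1 1) ℓ = 0 from hβ, α]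
  · refine ⟨!![1, 0; -(α / β), 1], β, by simp [Matrix.det_fin_two], ?_⟩
    rw [h]
    simp only [map_add, map_mul, algHom_C, algebraMap_eq, sub_X, lin_eq]
    simp only [Matrix.cons_val', Matrix.cons_val_zero, Matrix.cons_val_one, Matrix.of_apply,
      Matrix.empty_val', Matrix.cons_val_fin_one]
    show C α * _ + C β * _ = _
    have hα : (C α : MvPolynomial (Fin 2) k) = C β * C (α / β) := by rw [← map_mul, mul_div_cancel₀ _ hβ]
    rw [hα, map_one, map_neg, map_zero]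
    ring

theorem vanish_of_pow_dvd (a : CoordGrp.FormIdx 2 m → k) {ℓ : MvPolynomial (Fin 2) k}
    (hℓ : ℓ.IsHomogeneous 1) (hℓ0 : ℓ ≠ 0) (μ : ℕ) (hdvd : ℓ ^ μ ∣ CoordGrp.formPoly a) :
    ∃ M : Matrix (Fin 2) (Fin 2) k, M.det = 1 ∧
      ∀ e : Fin 2 →₀ ℕ, coeff e (sub M (CoordGrp.formPoly a)) ≠ 0 → μ ≤ e 1 := by
  classical
  obtain ⟨M, c, hM, hMℓ⟩ := exists_move hℓ hℓ0
  refine ⟨M, hM, fun e he => ?_⟩
  obtain ⟨q, hq⟩ := hdvd
  rw [hq, map_mul, map_pow, hMℓ, mul_pow, mul_assoc, ← map_pow, coeff_C_mul, X_pow_eq_monomial,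
    coeff_monomial_mul'] at he
  by_contra hlt
  rw [if_neg, mul_zero] at he
  · exact he rfl
  · intro hle
    exact hlt (by simpa using hle 1)

theorem dvd_of_vanish (a : CoordGrp.FormIdx 2 m → k) (M : Matrix (Fin 2) (Fin 2) k) (hM : M.det = 1)
    (μ : ℕ) (h : ∀ e : Fin 2 →₀ ℕ, coeff e (sub M (CoordGrp.formPoly a)) ≠ 0 → μ ≤ e 1) :
    ∃ ℓ : MvPolynomial (Fin 2) k, ℓ.IsHomogeneous 1 ∧ ℓ ≠ 0 ∧ ℓ ^ μ ∣ CoordGrp.formPoly a := by
  classical
  have hMM : M * M.adjugate = 1 := by rw [Matrix.mul_adjugate, hM, one_smul]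
  refine ⟨sub M.adjugate (X 1), isHomogeneous_sub _ (isHomogeneous_X k 1), fun h0 => ?_, ?_⟩
  · have := congrArg (sub M) h0
    rw [sub_mul, map_zero, Matrix.adjugate_mul, hM, one_smul, sub_one] at this
    exact X_ne_zero 1 this
  · have hd : (X 1 : MvPolynomial (Fin 2) k) ^ μ ∣ sub M (CoordGrp.formPoly a) := by
      rw [(sub M (CoordGrp.formPoly a)).as_sum]
      refine Finset.dvd_sum fun e he => ?_
      rw [X_pow_eq_monomial]
      exact monomial_dvd_monomial.2 ⟨Or.inr (Finsupp.single_le_iff.2 (h e (mem_support_iff.1 he))), one_dvd _⟩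
    have := map_dvd (sub M.adjugate) hd
    rwa [map_pow, sub_mul, hMM, sub_one] at this

variable [IsAlgClosed k] [CharZero k] {d : ℕ}

omit [CharZero k] in
theorem noDestab_binary (a : CoordGrp.FormIdx 2 d → k)
    (h : ∀ ℓ : MvPolynomial (Fin 2) k, ℓ.IsHomogeneous 1 → ℓ ≠ 0 →
      ∀ μ : ℕ, ℓ ^ μ ∣ CoordGrp.formPoly a → 2 * μ < d) : NoDestab a := by
  classical
  refine noDestab_of_antitone a fun κ _ _ ι U hU Γ _ _ _ r hanti hr hr0 => ?_
  by_contra hcon
  push Not at hcon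
  rw [Fin.sum_univ_two] at hr
  have hr1 : r 1 = -r 0 := eq_neg_of_add_eq_zero_right hr
  have hpos : 0 < r 0 := by
    refine lt_of_le_of_ne ?_ fun h0 => hr0 (funext fun i => by fin_cases i <;> simp [← h0, hr1])
    by_contra hlt
    push Not at hlt
    have h1 : r 1 ≤ r 0 := hanti (by decide)
    rw [hr1] at h1
    exact absurd (neg_pos.2 hlt) (not_lt.2 (h1.trans hlt.le))
  obtain ⟨M, hM, hMe⟩ := exists_descend (by norm_num) a
    {e | e.degree = d ∧ 2 * e 1 < d} ι U hU (fun e ⟨hdeg, hlt⟩ => by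
      rw [Finsupp.degree_eq_sum, Fin.sum_univ_two] at hdeg
      by_contra hne
      have h2 := hcon e hne
      rw [Fin.sum_univ_two, hr1, smul_neg, ← sub_eq_add_neg, sub_nonpos] at h2
      exact absurd (nsmul_lt_nsmul_left hpos (show e 1 < e 0 by omega)) (not_lt.2 h2))
  obtain ⟨ℓ, hℓ, hℓ0, hdvd⟩ := dvd_of_vanish a M hM ((d + 1) / 2) fun e he => by
    have hdeg := coeff_eq_zero_of_formPoly a M he
    by_contra hlt
    exact he (hMe e ⟨hdeg, by omega⟩)
  have := h ℓ hℓ hℓ0 _ hdvd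
  omega

theorem not_stable_of_dvd (a : CoordGrp.FormIdx 2 d → k) {ℓ : MvPolynomial (Fin 2) k}
    (hℓ : ℓ.IsHomogeneous 1) (hℓ0 : ℓ ≠ 0) (μ : ℕ) (hdvd : ℓ ^ μ ∣ CoordGrp.formPoly a)
    (hμ : d ≤ 2 * μ) :
    ¬ @GLin.IsStableVec k _ (CoordGrp.SLn 2 k) _ _ (CoordGrp.FormIdx 2 d) (GLin.comodAlong (toSL 2 k) (CoordGrp.formsCoact k 2 d))
      (GLin.isCoactAlg_comodAlong (toSL 2 k) (CoordGrp.formsCoact k 2 d)
        (CoordGrp.formsCoact_isCoactAlg k 2 d))
      a := by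
  obtain ⟨M, hM, hMe⟩ := vanish_of_pow_dvd a hℓ hℓ0 μ hdvd
  refine not_isStableVec_of_weights a M hM ![1, -1] (by simp) (fun h0 => by simpa using congrFun h0 0)
    fun e he => ?_
  have h1 := hMe e he
  have hdeg := coeff_eq_zero_of_formPoly a M he
  rw [Finsupp.degree_eq_sum, Fin.sum_univ_two] at hdeg
  simp [Fin.sum_univ_two]
  omega

theorem nullform_of_dvd (a : CoordGrp.FormIdx 2 d → k) {ℓ : MvPolynomial (Fin 2) k}
    (hℓ : ℓ.IsHomogeneous 1) (hℓ0 : ℓ ≠ 0) (μ : ℕ) (hdvd : ℓ ^ μ ∣ CoordGrp.formPoly a)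
    (hμ : d < 2 * μ) :
    @GLin.IsNullform k _ (CoordGrp.SLn 2 k) _ _ (CoordGrp.FormIdx 2 d) (GLin.comodAlong (toSL 2 k) (CoordGrp.formsCoact k 2 d))
      (GLin.isCoactAlg_comodAlong (toSL 2 k) (CoordGrp.formsCoact k 2 d)
        (CoordGrp.formsCoact_isCoactAlg k 2 d))
      a := by
  obtain ⟨M, hM, hMe⟩ := vanish_of_pow_dvd a hℓ hℓ0 μ hdvd
  refine isNullform_of_weights a M hM ![1, -1] (by simp) fun e he => ?_
  have h1 := hMe e he
  have hdeg := coeff_eq_zero_of_formPoly a M he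
  rw [Finsupp.degree_eq_sum, Fin.sum_univ_two] at hdeg
  simp [Fin.sum_univ_two]
  omega

end Groth.Agent.GIT36
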