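import Groth.Agent.GIT36.Valuative
import Groth.Agent.GIT36.Smooth
import Groth.Agent.GIT36.Binary
import Groth.Agent.Bin36.Act

/-!
# Semistability of binary forms through brackets of roots
-/

set_option autoImplicit false

noncomputable section

open MvPolynomial

namespace Groth.Agent.GIT36

universe u v w

section General

variable {d : ℕ} {T : Type v} [CommRing T]

/-- `∏ (u_{l0} x + u_{l1} y)` -/
def prodLin (u : Fin d → Fin 2 → T) : MvPolynomial (Fin 2) T :=
  ∏ l, (C (u l 0) * X 0 + C (u l 1) * X 1)

theorem isHomogeneous_prodLin (u : Fin d → Fin 2 → T) : (prodLin u).IsHomogeneous d := by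
  have h := IsHomogeneous.prod Finset.univ (fun l => C (u l 0) * X 0 + C (u l 1) * X 1) (fun _ => 1)
    (fun l _ => ((isHomogeneous_X T (0 : Fin 2)).C_mul _).add ((isHomogeneous_X T (1 : Fin 2)).C_mul _))
  simpa [prodLin] using h

theorem map_prodLin {S : Type w} [CommRing S] (f : T →+* S) (u : Fin d → Fin 2 → T) :
    map f (prodLin u) = prodLin fun l i => f (u l i) := by
  simp [prodLin]

theorem sub_prodLin (g : Matrix (Fin 2) (Fin 2) T) (u : Fin d → Fin 2 → T) :
    sub g (prodLin u) = prodLin fun l i => u l 0 * g 0 i + u l 1 * g 1 i := by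
  simp only [prodLin, map_prod, map_add, map_mul, algHom_C, algebraMap_eq, sub_X, lin, Fin.sum_univ_two]
  exact Finset.prod_congr rfl fun l _ => by ring

/-- product of `2 × 2` minors along a permutation -/
def bracket (π : Equiv.Perm (Fin d)) (u : Fin d → Fin 2 → T) : T :=
  ∏ l, (u l 0 * u (π l) 1 - u l 1 * u (π l) 0)

theorem bracket_transform (π : Equiv.Perm (Fin d)) (g : Matrix (Fin 2) (Fin 2) T) (hg : g.det = 1)
    (u : Fin d → Fin 2 → T) :
    bracket π (fun l i => u l 0 * g 0 i + u l 1 * g 1 i) = bracket π u := by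
  refine Finset.prod_congr rfl fun l _ => ?_
  rw [Matrix.det_fin_two] at hg
  linear_combination (u l 0 * u (π l) 1 - u l 1 * u (π l) 0) * hg

theorem map_bracket {S : Type w} [CommRing S] (f : T →+* S) (π : Equiv.Perm (Fin d))
    (u : Fin d → Fin 2 → T) : f (bracket π u) = bracket π fun l i => f (u l i) := by
  simp [bracket]

end General

variable {k : Type u} [Field k]

/-- binary forms split over an algebraically closed field -/
theorem exists_split [IsAlgClosed k] : ∀ (d : ℕ) (F : MvPolynomial (Fin 2) k), F.IsHomogeneous d →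
    ∃ (c : k) (u : Fin d → Fin 2 → k), F = C c * prodLin u := by
  intro d
  induction d with
  | zero =>
    intro F hF
    refine ⟨coeff 0 F, fun l => l.elim0, ?_⟩
    rw [prodLin, Finset.univ_eq_empty, Finset.prod_empty, mul_one]
    refine MvPolynomial.ext _ _ fun e => ?_
    by_cases he : e = 0
    · simp [he]
    · rw [coeff_C, if_neg (Ne.symm he), hF.coeff_eq_zero]
      rwa [Ne, Finsupp.degree_eq_zero_iff]
  | succ d ih =>
    intro F hF
    obtain ⟨w, hw, hwz⟩ := Ci77.exists_common_zero (r := 1) (fun _ : Fin 1 => F) (fun _ => by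
      rw [eval_zero, constantCoeff_eq, hF.coeff_eq_zero (by simp)]) (by norm_num)
    obtain ⟨M, hM, hMw⟩ : ∃ M : Matrix (Fin 2) (Fin 2) k, M.det = 1 ∧ M.mulVec ![1, 0] = w := by
      by_cases h0 : w 0 = 0
      · have h1 : w 1 ≠ 0 := fun h1 => hw (funext fun i => by fin_cases i <;> assumption)
        refine ⟨!![0, -(w 1)⁻¹; w 1, 0], by simp [Matrix.det_fin_two, h1], ?_⟩
        funext i
        fin_cases i <;> simp [Matrix.mulVec, dotProduct, Fin.sum_univ_two, h0]
      · refine ⟨!![w 0, 0; w 1, (w 0)⁻¹], by simp [Matrix.det_fin_two, h0], ?_⟩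
        funext i
        fin_cases i <;> simp [Matrix.mulVec, dotProduct, Fin.sum_univ_two]
    have hG : (sub M F).IsHomogeneous (d + 1) := isHomogeneous_sub M hF
    have h10 : eval ![1, 0] (sub M F) = 0 := by
      rw [eval_sub, hMw]
      exact hwz 0
    have hdvd : (X 1 : MvPolynomial (Fin 2) k) ∣ sub M F := by
      rw [(sub M F).as_sum]
      refine Finset.dvd_sum fun e he => X_dvd_monomial.2 (Or.inr fun he1 => ?_)
      have hdeg : e.degree = d + 1 := by
        by_contra h
        exact mem_support_iff.1 he (hG.coeff_eq_zero h)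
      have h2 := hdeg
      rw [Finsupp.degree_eq_sum, Fin.sum_univ_two] at h2
      refine mem_support_iff.1 he ?_
      rw [eval_eq', Finset.sum_eq_single e] at h10
      · simpa [Fin.prod_univ_two, he1] using h10
      · intro e' he' hne
        have he'1 : e' 1 ≠ 0 := fun h => hne (by
          have hdeg' : e'.degree = d + 1 := by
            by_contra h'
            exact mem_support_iff.1 he' (hG.coeff_eq_zero h')
          rw [Finsupp.degree_eq_sum, Fin.sum_univ_two] at hdeg'
          rw [eq_single_add e', eq_single_add e, h, he1, show e' 0 = e 0 from by omega])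
        simp [Fin.prod_univ_two, zero_pow he'1]
      · exact fun h => absurd he h
    obtain ⟨q, hq⟩ := map_dvd (sub M.adjugate) hdvd
    rw [sub_mul, Matrix.mul_adjugate, hM, one_smul, sub_one] at hq
    set ℓ := sub M.adjugate (X 1)
    have hℓ : ℓ.IsHomogeneous 1 := isHomogeneous_sub _ (isHomogeneous_X k 1)
    have hq' : F = ℓ * homogeneousComponent d q := by
      have hF' : homogeneousComponent (d + 1) F = F := by rw [homogeneousComponent_of_mem hF, if_pos rfl]
      rw [← hF']
      rw [hq]
      conv_lhs => rw [← sum_homogeneousComponent q]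
      rw [Finset.mul_sum, map_sum, Finset.sum_eq_single d]
      · rw [homogeneousComponent_of_mem (hℓ.mul (homogeneousComponent_isHomogeneous d q)), if_pos (by omega)]
      · intro i _ hi
        rw [homogeneousComponent_of_mem (hℓ.mul (homogeneousComponent_isHomogeneous i q)), if_neg (by omega)]
      · intro hd
        rw [Finset.mem_range, not_lt] at hd
        rw [homogeneousComponent_eq_zero d q (by omega), mul_zero, map_zero]
    obtain ⟨c, u, hu⟩ := ih _ (homogeneousComponent_isHomogeneous d q)
    refine ⟨c, Fin.cons ![coeff (Finsupp.single 0 1) ℓ, coeff (Finsupp.single 1 1) ℓ] u, ?_⟩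
    rw [prodLin, Fin.prod_univ_succ]
    simp only [Fin.cons_zero, Fin.cons_succ, Matrix.cons_val_zero, Matrix.cons_val_one,
      Matrix.cons_val_fin_one]
    rw [← linear_eq hℓ, hq', hu, prodLin]
    ring

variable (k) (d : ℕ)

/-- the generic roots -/
abbrev RootRing : Type u := MvPolynomial (Fin d × Fin 2) k

/-- the generic root coordinates -/
def genRoot : Fin d → Fin 2 → RootRing k d := fun l i => X (l, i)

/-- coefficients as functions of the roots -/
def rho : CoordGrp.FormRing k 2 d →ₐ[k] RootRing k d :=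
  aeval fun p => C ((p.1.multinomial : k))⁻¹ * coeff p.1 (prodLin (genRoot k d))

variable {k}

theorem multinomial_ne_zero' [CharZero k] {T : Type v} [CommRing T] [Nontrivial T] [Algebra k T]
    {N : ℕ} (e : Fin N →₀ ℕ) : (e.multinomial : T) ≠ 0 := by
  rw [← map_natCast (algebraMap k T)]
  exact (map_ne_zero _).2 (multinomial_ne_zero e)

theorem formPoly_injective' [CharZero k] {T : Type v} [CommRing T] [IsDomain T] [Algebra k T]
    {N m : ℕ} {a b : CoordGrp.FormIdx N m → T} (h : CoordGrp.formPoly a = CoordGrp.formPoly b) : a = b := by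
  funext p
  have h' := congrArg (coeff p.1) h
  rw [CoordGrp.coeff_formPoly, CoordGrp.coeff_formPoly] at h'
  exact mul_left_cancel₀ (multinomial_ne_zero' (k := k) p.1) h'

theorem eq_formPoly [CharZero k] {T : Type v} [CommRing T] [Algebra k T] {N m : ℕ}
    {F : MvPolynomial (Fin N) T} (hF : F.IsHomogeneous m) :
    CoordGrp.formPoly (fun p : CoordGrp.FormIdx N m => algebraMap k T (p.1.multinomial : k)⁻¹ * coeff p.1 F) = F := by
  refine MvPolynomial.ext _ _ fun e => ?_
  by_cases he : e.degree = m
  · rw [show e = (⟨e, he⟩ : CoordGrp.FormIdx N m).1 from rfl, CoordGrp.coeff_formPoly,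
      ← mul_assoc, ← map_natCast (algebraMap k T), ← map_mul, mul_inv_cancel₀ (multinomial_ne_zero _),
      map_one, one_mul]
  · rw [hF.coeff_eq_zero he, (isHomogeneous_formPoly _).coeff_eq_zero he]

theorem formPoly_rho [CharZero k] :
    CoordGrp.formPoly (fun p => rho k d (X p)) = prodLin (genRoot k d) := by
  conv_rhs => rw [← eq_formPoly (k := k) (isHomogeneous_prodLin (genRoot k d))]
  simp [rho, algebraMap_eq]

theorem comp_rho [CharZero k] (u : Fin d → Fin 2 → k) (b : CoordGrp.FormIdx 2 d → k)
    (hb : CoordGrp.formPoly b = prodLin u) :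
    (aeval fun li : Fin d × Fin 2 => u li.1 li.2).comp (rho k d) = aeval b := by
  apply algHom_ext
  intro p
  rw [AlgHom.comp_apply, aeval_X]
  refine congrFun (formPoly_injective (?_ : CoordGrp.formPoly (fun p =>
    (aeval fun li : Fin d × Fin 2 => u li.1 li.2) (rho k d (X p))) = CoordGrp.formPoly b)) p
  rw [hb]
  rw [show CoordGrp.formPoly (fun p => (aeval fun li : Fin d × Fin 2 => u li.1 li.2) (rho k d (X p)))
      = map (aeval fun li : Fin d × Fin 2 => u li.1 li.2).toRingHom
        (CoordGrp.formPoly fun p => rho k d (X p)) from (map_formPoly _ _).symm,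
    formPoly_rho, map_prodLin]
  simp [genRoot]

theorem rho_injective [IsAlgClosed k] [CharZero k] (hd : 0 < d) : Function.Injective (rho k d) := by
  refine (injective_iff_map_eq_zero _).2 fun f hf => funext fun b => ?_
  rw [map_zero]
  obtain ⟨c, u, hu⟩ := exists_split d _ (isHomogeneous_formPoly b)
  let l₀ : Fin d := ⟨0, hd⟩
  let u' : Fin d → Fin 2 → k := fun l i => (if l = l₀ then c else 1) * u l i
  have hu' : CoordGrp.formPoly b = prodLin u' := by
    rw [hu, prodLin, prodLin, ← Finset.prod_ite_eq' Finset.univ l₀ (fun _ => C c) |>.trans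
      (if_pos (Finset.mem_univ l₀)), ← Finset.prod_mul_distrib]
    refine Finset.prod_congr rfl fun l _ => ?_
    simp only [u']
    split_ifs <;> simp only [map_mul, one_mul] <;> ring
  have h := DFunLike.congr_fun (comp_rho d u' b hu') f
  rw [AlgHom.comp_apply, hf, map_zero] at h
  rw [← coe_aeval_eq_eval]
  exact h.symm

theorem integral_bracket [CharZero k] (π : Equiv.Perm (Fin d)) :
    (rho k d).toRingHom.IsIntegralElem (bracket π (genRoot k d)) := by
  classical
  refine isIntegralElem_of_forall_valuationSubring _ _ fun K _ φ O hO => ?_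
  rw [map_bracket]
  set A : Fin d → Fin 2 → K := fun l i => φ (genRoot k d l i)
  by_cases hz : ∃ l, ∀ i, A l i = 0
  · obtain ⟨l, hl⟩ := hz
    rw [bracket, Finset.prod_eq_zero (Finset.mem_univ l) (by rw [hl 0, hl 1]; ring)]
    exact O.zero_mem
  push Not at hz
  have hmax : ∀ l, ∃ i, ∀ j, O.valuation (A l j) ≤ O.valuation (A l i) := fun l =>
    let ⟨i, _, hi⟩ := Finset.univ.exists_max_image (fun j => O.valuation (A l j)) Finset.univ_nonempty
    ⟨i, fun j => hi j (Finset.mem_univ j)⟩
  choose im him using hmax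
  have he0 : ∀ l, A l (im l) ≠ 0 := by
    intro l h0
    obtain ⟨j, hj⟩ := hz l
    have := him l j
    rw [h0, map_zero, le_zero_iff, map_eq_zero] at this
    exact hj this
  have hmem : ∀ l i, A l i / A l (im l) ∈ O := fun l i => by
    rw [← O.valuation_le_one_iff, map_div₀]
    exact div_le_one_of_le₀ (him l i) zero_le
  let A' : Fin d → Fin 2 → O := fun l i => ⟨A l i / A l (im l), hmem l i⟩
  have hA : ∀ l i, A l i = A l (im l) * (A' l i : K) := fun l i => by
    show _ = A l (im l) * (A l i / A l (im l))
    rw [mul_div_cancel₀ _ (he0 l)]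
  set E := ∏ l, A l (im l) with hE
  have hΦ : map φ (prodLin (genRoot k d)) = C E * map O.subtype (prodLin A') := by
    rw [map_prodLin, map_prodLin, prodLin, prodLin, hE, map_prod, ← Finset.prod_mul_distrib]
    refine Finset.prod_congr rfl fun l _ => ?_
    rw [show φ (genRoot k d l 0) = _ from hA l 0, show φ (genRoot k d l 1) = _ from hA l 1,
      map_mul, map_mul]
    simp only [O.subtype_apply]
    ring
  obtain ⟨e, he⟩ : ∃ e, IsUnit (coeff e (prodLin A')) := by
    by_contra hno
    push Not at hno
    have h0 : map (IsLocalRing.residue O) (prodLin A') = 0 := MvPolynomial.ext _ _ fun e => by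
      rw [coeff_map, coeff_zero]
      exact (IsLocalRing.residue_eq_zero_iff _).2 (hno e)
    rw [map_prodLin, prodLin, Finset.prod_eq_zero_iff] at h0
    obtain ⟨l, -, hl⟩ := h0
    have h1 : A' l (im l) = 1 := Subtype.ext (div_self (he0 l))
    have hc := congrArg (coeff (Finsupp.single (im l) 1)) hl
    revert hc h1
    generalize im l = i
    intro h1 hc
    fin_cases i
    · simp only [Fin.zero_eta] at h1 hc
      simp [coeff_X', coeff_C_mul, Finsupp.single_eq_single_iff, h1] at hc
    · simp only [Fin.mk_one] at h1 hc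
      simp [coeff_X', coeff_C_mul, Finsupp.single_eq_single_iff, h1] at hc
  have hEle : O.valuation E ≤ 1 := by
    have h := congrArg (coeff e) hΦ
    rw [coeff_map, coeff_C_mul, coeff_map] at h
    have hmemO : φ (coeff e (prodLin (genRoot k d))) ∈ O := by
      rw [← formPoly_rho]
      rw [CoordGrp.formPoly, coeff_sum, map_sum]
      refine sum_mem fun p _ => ?_
      rw [coeff_monomial]
      split_ifs
      · rw [map_mul, map_natCast]
        exact mul_mem (natCast_mem O _) (hO _)
      · rw [map_zero]; exact O.zero_mem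
    rw [h, ← O.valuation_le_one_iff, map_mul,
      show O.valuation (O.subtype (coeff e (prodLin A'))) = 1 from (O.valuation_eq_one_iff _).1 he,
      mul_one] at hmemO
    exact hmemO
  have hfin : bracket π A = E * E * ((bracket π A' : O) : K) := by
    have h2 : ∏ l, A (π l) (im (π l)) = E := Equiv.prod_comp π fun l => A l (im l)
    nth_rw 2 [← h2]
    rw [hE, ← O.subtype_apply (bracket π A'), map_bracket]
    simp only [bracket, ← Finset.prod_mul_distrib]
    refine Finset.prod_congr rfl fun l _ => ?_
    rw [hA l 0, hA l 1, hA (π l) 0, hA (π l) 1]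
    simp only [O.subtype_apply]
    ring
  rw [hfin]
  have hEm : E ∈ O := (O.valuation_le_one_iff _).1 hEle
  exact mul_mem (mul_mem hEm hEm) (bracket π A').2

theorem act_homogeneousComponent (M : Matrix (Fin 2) (Fin 2) k) (j : ℕ)
    (f : CoordGrp.FormRing k 2 d) :
    Bin36.act d M (homogeneousComponent j f) = homogeneousComponent j (Bin36.act d M f) := by
  classical
  have hlin : ∀ m : CoordGrp.FormIdx 2 d,
      (Bin36.iota k d (Bin36.subst M (monomial m.1 1))).IsHomogeneous 1 := fun m => by
    rw [Bin36.iota_apply]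
    exact IsHomogeneous.sum _ _ _ fun l _ =>
      (homogeneousSubmodule _ k 1).smul_mem _ (isHomogeneous_X k l)
  have hhom : ∀ i, (Bin36.act d M (homogeneousComponent i f)).IsHomogeneous i := fun i => by
    have h := (homogeneousComponent_isHomogeneous i f).aeval _ (n := 1) hlin
    simpa [Bin36.act] using h
  conv_rhs => rw [← sum_homogeneousComponent f]
  rw [map_sum, map_sum, Finset.sum_eq_single j]
  · rw [homogeneousComponent_of_mem (hhom j), if_pos rfl]
  · intro i _ hi
    rw [homogeneousComponent_of_mem (hhom i), if_neg hi.symm]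
  · intro hj
    rw [Finset.mem_range, not_lt] at hj
    rw [homogeneousComponent_eq_zero j f (by omega), map_zero, map_zero]

variable [IsAlgClosed k] [CharZero k]

/-- invariants of a nullform take their value at the origin -/
theorem eval_eq_constantCoeff_of_nullform (a : CoordGrp.FormIdx 2 d → k)
    (hnull : ∀ F ∈ Bin36.inv k d, ∀ n : ℕ, 0 < n → F.IsHomogeneous n → eval a F = 0)
    {F : CoordGrp.FormRing k 2 d} (hF : F ∈ Bin36.inv k d) : eval a F = constantCoeff F := by
  have hcomp : ∀ j, homogeneousComponent j F ∈ Bin36.inv k d := fun j =>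
    (Bin36.mem_inv_iff d _).2 fun M hM => by
      rw [act_homogeneousComponent, (Bin36.mem_inv_iff d F).1 hF M hM]
  conv_lhs => rw [← sum_homogeneousComponent F]
  rw [map_sum, Finset.sum_eq_single 0]
  · rw [homogeneousComponent_zero, eval_C, constantCoeff_eq]
  · intro j _ hj
    exact hnull _ (hcomp j) j (Nat.pos_of_ne_zero hj) (homogeneousComponent_isHomogeneous j F)
  · simp

/-- the transformation of the roots by a matrix -/
def rootAct (M : Matrix (Fin 2) (Fin 2) k) : RootRing k d →ₐ[k] RootRing k d :=
  aeval fun li => X (li.1, 0) * C (M 0 li.2) + X (li.1, 1) * C (M 1 li.2)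

theorem rootAct_rho (M : Matrix (Fin 2) (Fin 2) k) :
    (rootAct d M).comp (rho k d) = (rho k d).comp (Bin36.act d M) := by
  apply algHom_ext
  intro p
  rw [AlgHom.comp_apply, AlgHom.comp_apply]
  refine congrFun (formPoly_injective' (k := k) (?_ : CoordGrp.formPoly (fun p => rootAct d M (rho k d (X p)))
    = CoordGrp.formPoly fun p => rho k d (Bin36.act d M (X p)))) p
  have hL : CoordGrp.formPoly (fun p => rootAct d M (rho k d (X p)))
      = sub (M.map (algebraMap k (RootRing k d))) (prodLin (genRoot k d)) := by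
    rw [sub_prodLin, show CoordGrp.formPoly (fun p => rootAct d M (rho k d (X p)))
        = map (rootAct d M).toRingHom (CoordGrp.formPoly fun p => rho k d (X p)) from (map_formPoly _ _).symm,
      formPoly_rho, map_prodLin]
    congr 1
    funext l i
    simp [genRoot, rootAct, algebraMap_eq]
  rw [hL, ← formPoly_rho, ← formPoly_moved]
  congr 1
  funext p
  rw [Bin36.act, aeval_X, Bin36.iota_apply, map_sum]
  refine Finset.sum_congr rfl fun l _ => ?_
  rw [map_smul, Algebra.smul_def, mul_comm]
  congr 1
  rw [← coeff_map (algebraMap k (RootRing k d))]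
  congr 1
  have hs : Bin36.subst M (monomial p.1 1) = ∏ i, lin M.transpose i ^ p.1 i := by
    rw [Bin36.subst, aeval_monomial, map_one, one_mul, Finsupp.prod_fintype _ _ (fun i => pow_zero _)]
    refine Finset.prod_congr rfl fun i _ => ?_
    congr 1
    simp [lin, smul_eq_C_mul]
  rw [hs, map_prod]
  refine Finset.prod_congr rfl fun i _ => ?_
  rw [map_pow, map_lin, Matrix.transpose_map]

/-- a form with a non-vanishing bracket of roots is semistable -/
theorem not_null_of_bracket (hd : 0 < d) (a : CoordGrp.FormIdx 2 d → k) (u : Fin d → Fin 2 → k)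
    (hu : CoordGrp.formPoly a = prodLin u) (π : Equiv.Perm (Fin d)) (hπ : bracket π u ≠ 0)
    (hnull : ∀ F ∈ Bin36.inv k d, ∀ n : ℕ, 0 < n → F.IsHomogeneous n → eval a F = 0) : False := by
  classical
  let R := CoordGrp.FormRing k 2 d
  let S := RootRing k d
  letI : Algebra R S := (rho k d).toRingHom.toAlgebra
  have hinj : Function.Injective (algebraMap R S) := rho_injective d hd
  haveI : FaithfulSMul R S := (faithfulSMul_iff_algebraMap_injective R S).2 hinj
  haveI : Module.IsTorsionFree R S := Module.isTorsionFree_iff_algebraMap_injective.2 hinj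
  set P : S := bracket π (genRoot k d) with hP
  have hint : IsIntegral R P := integral_bracket d π
  set q := minpoly R P with hq
  have hqm : q.Monic := minpoly.monic hint
  have hqinv : ∀ s, q.coeff s ∈ Bin36.inv k d := fun s => (Bin36.mem_inv_iff d _).2 fun M hM => by
    set f := (Bin36.act d M).toRingHom with hf
    have hroot : Polynomial.aeval P (q.map f) = 0 := by
      rw [Polynomial.aeval_def, Polynomial.eval₂_map,
        show (algebraMap R S).comp f = (rootAct d M).toRingHom.comp (algebraMap R S) from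
          RingHom.ext fun x => (DFunLike.congr_fun (rootAct_rho d M) x).symm]
      have hPfix : rootAct d M P = P := by
        rw [hP, show rootAct d M (bracket π (genRoot k d))
            = bracket π (fun l i => rootAct d M (genRoot k d l i)) from
          map_bracket (rootAct d M).toRingHom π _]
        conv_rhs => rw [← bracket_transform π (M.map (algebraMap k S))
          (by rw [← RingHom.mapMatrix_apply, ← RingHom.map_det, hM, map_one]) (genRoot k d)]
        congr 1
        funext l i
        simp [genRoot, rootAct, algebraMap_eq]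
        rfl
      conv_lhs => rw [← hPfix]
      have h := Polynomial.hom_eval₂ q (algebraMap R S) (rootAct d M).toRingHom P
      rw [← Polynomial.aeval_def, hq, minpoly.aeval, map_zero] at h
      exact h.symm
    have heq : q.map f = q := IsIntegrallyClosed.minpoly.unique (hqm.map f) hroot fun Q hQ hQ0 => by
      rw [hqm.degree_map]
      exact minpoly.min R P hQ hQ0
    have := congrArg (fun r => Polynomial.coeff r s) heq
    rwa [Polynomial.coeff_map] at this
  set p₀ : Polynomial k := q.map (constantCoeff : R →+* k) with hp₀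
  have hroots : ∀ t : k, p₀.eval (t ^ (2 * d) * bracket π u) = 0 := by
    intro t
    let θ : S →ₐ[k] k := aeval fun li : Fin d × Fin 2 => t * u li.1 li.2
    let b : CoordGrp.FormIdx 2 d → k := fun p => t ^ d * a p
    have hb : CoordGrp.formPoly b = prodLin fun l i => t * u l i := by
      have h1 : CoordGrp.formPoly b = C (t ^ d) * CoordGrp.formPoly a := by
        simp only [CoordGrp.formPoly, Finset.mul_sum, C_mul_monomial, b]
        exact Finset.sum_congr rfl fun p _ => congrArg _ (by ring)
      rw [h1, hu, prodLin, prodLin,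
        show (C (t ^ d) : MvPolynomial (Fin 2) k) = ∏ _l : Fin d, C t by simp, ← Finset.prod_mul_distrib]
      refine Finset.prod_congr rfl fun l _ => ?_
      simp only [map_mul]
      ring
    have hbnull : ∀ F ∈ Bin36.inv k d, ∀ n : ℕ, 0 < n → F.IsHomogeneous n → eval b F = 0 := by
      intro F hF n hn hhom
      have h1 : eval b F = (t ^ d) ^ n * eval a F := by
        rw [eval_eq', eval_eq', Finset.mul_sum]
        refine Finset.sum_congr rfl fun e he => ?_
        have hdeg : ∑ i, e i = n := by
          rw [← Finsupp.degree_eq_sum]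
          by_contra hne
          exact mem_support_iff.1 he (hhom.coeff_eq_zero hne)
        simp only [b, mul_pow, Finset.prod_mul_distrib, Finset.prod_pow_eq_pow_sum, hdeg]
        ring
      rw [h1, hnull F hF n hn hhom, mul_zero]
    have hθρ : θ.toRingHom.comp (algebraMap R S) = eval b := RingHom.ext fun x => by
      rw [← coe_aeval_eq_eval]
      exact DFunLike.congr_fun (comp_rho d _ b hb) x
    have hev : q.map (eval b) = p₀ := Polynomial.ext fun s => by
      rw [hp₀, Polynomial.coeff_map, Polynomial.coeff_map]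
      exact eval_eq_constantCoeff_of_nullform d b hbnull (hqinv s)
    have hθP : θ P = t ^ (2 * d) * bracket π u := by
      rw [hP, show θ (bracket π (genRoot k d)) = bracket π (fun l i => θ (genRoot k d l i)) from
        map_bracket θ.toRingHom π _, bracket, bracket, pow_mul,
        show (t ^ 2) ^ d = ∏ _l : Fin d, t ^ 2 by simp, ← Finset.prod_mul_distrib]
      refine Finset.prod_congr rfl fun l _ => ?_
      have hθX : ∀ li : Fin d × Fin 2, θ (X li) = t * u li.1 li.2 := fun li => aeval_X _ li
      simp only [genRoot, hθX]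
      ring
    rw [← hθP, ← hev, Polynomial.eval_map, ← hθρ]
    have h := Polynomial.hom_eval₂ q (algebraMap R S) θ.toRingHom P
    rw [← Polynomial.aeval_def, hq, minpoly.aeval, map_zero] at h
    exact h.symm
  have hp0 : p₀ ≠ 0 := (hqm.map _).ne_zero
  refine hp0 (Polynomial.eq_zero_of_infinite_isRoot p₀ (Set.infinite_of_injective_forall_mem
    (f := fun j : ℕ => ((2 : k) ^ j) ^ (2 * d) * bracket π u) ?_ fun j => hroots _))
  intro i j hij
  have h : ((2 : k) ^ i) ^ (2 * d) = ((2 : k) ^ j) ^ (2 * d) := mul_right_cancel₀ hπ hij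
  rw [← pow_mul, ← pow_mul] at h
  have h' : (2 : ℕ) ^ (i * (2 * d)) = 2 ^ (j * (2 * d)) := by exact_mod_cast h
  exact Nat.eq_of_mul_eq_mul_right (by omega) (Nat.pow_right_injective le_rfl h')

omit [IsAlgClosed k] [CharZero k] in
theorem linearForm_eq_of_bracket_zero {x y : Fin 2 → k} (hx : x ≠ 0)
    (h : x 0 * y 1 - x 1 * y 0 = 0) : ∃ c : k, y 0 = c * x 0 ∧ y 1 = c * x 1 := by
  by_cases h0 : x 0 = 0
  · have h1 : x 1 ≠ 0 := fun h1 => hx (funext fun i => by fin_cases i <;> assumption)
    refine ⟨y 1 / x 1, ?_, by field_simp⟩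
    rw [h0, zero_mul, zero_sub, neg_eq_zero, mul_eq_zero] at h
    rw [h0, h.resolve_left h1, mul_zero]
  · refine ⟨y 0 / x 0, by field_simp, ?_⟩
    field_simp
    linear_combination h

/-- pairing of the roots avoiding equal ones -/
theorem exists_bracket (a : CoordGrp.FormIdx 2 d → k) (ha : a ≠ 0)
    (h : ∀ ℓ : MvPolynomial (Fin 2) k, ℓ.IsHomogeneous 1 → ℓ ≠ 0 →
      ∀ μ : ℕ, ℓ ^ μ ∣ CoordGrp.formPoly a → 2 * μ ≤ d)
    (u : Fin d → Fin 2 → k) (hu : CoordGrp.formPoly a = prodLin u) :
    ∃ π : Equiv.Perm (Fin d), bracket π u ≠ 0 := by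
  classical
  have hne : prodLin u ≠ 0 := by
    rw [← hu]
    exact fun h0 => ha (formPoly_injective (h0.trans (by simp [CoordGrp.formPoly])))
  have hu0 : ∀ l, u l ≠ 0 := fun l h0 => hne (Finset.prod_eq_zero (Finset.mem_univ l) (by simp [h0]))
  let Rel : Fin d → Fin d → Prop := fun i l => u i 0 * u l 1 - u i 1 * u l 0 = 0
  let A : Fin d → Finset (Fin d) := fun i => Finset.univ.filter (Rel i)
  have hA : ∀ i, 2 * (A i).card ≤ d := by
    intro i
    let ℓ : MvPolynomial (Fin 2) k := C (u i 0) * X 0 + C (u i 1) * X 1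
    have hhom : ℓ.IsHomogeneous 1 :=
      ((isHomogeneous_X k (0 : Fin 2)).C_mul _).add ((isHomogeneous_X k (1 : Fin 2)).C_mul _)
    have hℓ0 : ℓ ≠ 0 := fun h0 => hne (Finset.prod_eq_zero (Finset.mem_univ i) h0)
    refine h ℓ hhom hℓ0 _ ?_
    rw [hu, ← Finset.prod_const, prodLin]
    refine (Finset.prod_dvd_prod_of_dvd _ _ fun l hl => ?_).trans
      (Finset.prod_dvd_prod_of_subset (A i) Finset.univ _ (Finset.subset_univ _))
    obtain ⟨c, h0, h1⟩ := linearForm_eq_of_bracket_zero (hu0 i) (Finset.mem_filter.1 hl).2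
    refine ⟨C c, ?_⟩
    simp only [ℓ, h0, h1, map_mul]
    ring
  have hrefl : ∀ i, i ∈ A i := fun i => Finset.mem_filter.2 ⟨Finset.mem_univ _, by ring⟩
  have hAeq : ∀ i j, j ∈ A i → A i = A j := by
    intro i j hij
    obtain ⟨c, h0, h1⟩ := linearForm_eq_of_bracket_zero (hu0 i) (Finset.mem_filter.1 hij).2
    have hc : c ≠ 0 := fun hc => hu0 j (funext fun r => by fin_cases r <;> simp [h0, h1, hc])
    ext l
    simp only [A, Rel, Finset.mem_filter, Finset.mem_univ, true_and, h0, h1]
    rw [show c * u i 0 * u l 1 - c * u i 1 * u l 0 = c * (u i 0 * u l 1 - u i 1 * u l 0) by ring,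
      mul_eq_zero, or_iff_right hc]
  let key : Fin d → Fin d := fun i => (A i).min' ⟨i, hrefl i⟩
  let σ : Equiv.Perm (Fin d) := Tuple.sort key
  have hmono : Monotone (key ∘ σ) := Tuple.monotone_sort key
  have hkey : ∀ i j, j ∈ A i → key i = key j := fun i j hij => by
    simp only [key, hAeq i j hij]
  rcases Nat.eq_zero_or_pos d with rfl | hd
  · exact ⟨1, by simp [bracket]⟩
  haveI : NeZero d := ⟨hd.ne'⟩
  let s : Fin d := ⟨d / 2, Nat.div_lt_self hd one_lt_two⟩
  refine ⟨σ.symm.trans ((Equiv.addRight s).trans σ), fun h0 => ?_⟩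
  obtain ⟨l, -, hl⟩ := Finset.prod_eq_zero_iff.1 h0
  obtain ⟨i, rfl⟩ := σ.surjective l
  simp only [Equiv.trans_apply, Equiv.symm_apply_apply, Equiv.coe_addRight] at hl
  have hk : (key ∘ σ) i = (key ∘ σ) (i + s) :=
    hkey _ _ (Finset.mem_filter.2 ⟨Finset.mem_univ _, hl⟩)
  set lo := min i (i + s)
  set hi := max i (i + s)
  have hlohi : (key ∘ σ) lo = (key ∘ σ) hi := by
    rcases le_total i (i + s) with hle | hle
    · rw [show lo = i from min_eq_left hle, show hi = i + s from max_eq_right hle, hk]
    · rw [show lo = i + s from min_eq_right hle, show hi = i from max_eq_left hle, hk]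
  have hsub : (Finset.Icc lo hi).image σ ⊆ A (σ lo) := by
    intro j hj
    obtain ⟨i', hi', rfl⟩ := Finset.mem_image.1 hj
    rw [Finset.mem_Icc] at hi'
    have hk' : key (σ i') = key (σ lo) :=
      le_antisymm ((hmono hi'.2).trans_eq hlohi.symm) (hmono hi'.1)
    have h1 : key (σ lo) ∈ A (σ lo) := Finset.min'_mem _ _
    have h2 : key (σ i') ∈ A (σ i') := Finset.min'_mem _ _
    rw [hAeq _ _ h1, ← hk', ← hAeq _ _ h2]
    exact hrefl _
  have hcard := Finset.card_le_card hsub
  rw [Finset.card_image_of_injective _ σ.injective, Fin.card_Icc] at hcard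
  have h2 := hA (σ lo)
  have hv : (i + s).val = (i.val + d / 2) % d := Fin.val_add i s
  have hlo : lo.val = min i.val (i + s).val := Fin.coe_min i (i + s)
  have hhi : hi.val = max i.val (i + s).val := Fin.coe_max i (i + s)
  rcases lt_or_ge (i.val + d / 2) d with hw | hw
  · rw [Nat.mod_eq_of_lt hw] at hv
    omega
  · rw [Nat.mod_eq_sub_mod hw, Nat.mod_eq_of_lt (by omega)] at hv
    omega

theorem semistable_binary (a : CoordGrp.FormIdx 2 d → k) (ha : a ≠ 0)
    (h : ∀ ℓ : MvPolynomial (Fin 2) k, ℓ.IsHomogeneous 1 → ℓ ≠ 0 →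
      ∀ μ : ℕ, ℓ ^ μ ∣ CoordGrp.formPoly a → 2 * μ ≤ d)
    (hnull : ∀ F ∈ Bin36.inv k d, ∀ n : ℕ, 0 < n → F.IsHomogeneous n → eval a F = 0) : False := by
  classical
  rcases Nat.eq_zero_or_pos d with rfl | hd
  · obtain ⟨p, hp⟩ := Function.ne_iff.1 ha
    refine hp ?_
    have hp0 : p.1 = 0 := (Finsupp.degree_eq_zero_iff _).1 p.2
    have hmem : (X p : CoordGrp.FormRing k 2 0) ∈ Bin36.inv k 0 :=
      (Bin36.mem_inv_iff 0 _).2 fun M _ => by
        rw [Bin36.act, aeval_X, ← Bin36.iota_monomial 0 p, hp0]
        simp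
    simpa using hnull _ hmem 1 one_pos (isHomogeneous_X k p)
  obtain ⟨c, u, hu⟩ := exists_split d _ (isHomogeneous_formPoly a)
  let l₀ : Fin d := ⟨0, hd⟩
  let u' : Fin d → Fin 2 → k := fun l i => (if l = l₀ then c else 1) * u l i
  have hu' : CoordGrp.formPoly a = prodLin u' := by
    rw [hu, prodLin, prodLin, ← Finset.prod_ite_eq' Finset.univ l₀ (fun _ => C c) |>.trans
      (if_pos (Finset.mem_univ l₀)), ← Finset.prod_mul_distrib]
    refine Finset.prod_congr rfl fun l _ => ?_
    simp only [u']
    split_ifs <;> simp only [map_mul, one_mul] <;> ring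
  obtain ⟨π, hπ⟩ := exists_bracket d a ha h u' hu'
  exact not_null_of_bracket d hd a u' hu' π hπ hnull

end Groth.Agent.GIT36
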