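import Mathlib

/-!
# The valuative criterion of integrality and Smith normal form over valuation rings
-/

set_option autoImplicit false

noncomputable section

namespace Groth.Agent.GIT36

universe u v w

/-- valuative criterion of integrality -/
theorem isIntegralElem_of_forall_valuationSubring {B : Type v} {A : Type u} [CommRing B] [CommRing A]
    (f : B →+* A) (x : A)
    (h : ∀ (K : Type u) [Field K] (φ : A →+* K) (O : ValuationSubring K),
      (∀ b, φ (f b) ∈ O) → φ x ∈ O) : f.IsIntegralElem x := by
  by_contra hx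
  let S : Submonoid A :=
    { carrier := {a | ∃ p : Polynomial B, p.Monic ∧ p.eval₂ f x = a}
      mul_mem' := by
        rintro _ _ ⟨p, hp, rfl⟩ ⟨q, hq, rfl⟩
        exact ⟨p * q, hp.mul hq, Polynomial.eval₂_mul f x⟩
      one_mem' := ⟨1, Polynomial.monic_one, Polynomial.eval₂_one f x⟩ }
  have hS : Disjoint ((⊥ : Ideal A) : Set A) (S : Set A) := by
    rw [Set.disjoint_left]
    rintro a ha ⟨p, hp, rfl⟩
    exact hx ⟨p, hp, Ideal.mem_bot.1 ha⟩
  obtain ⟨P, hP, -, hdisj⟩ := Ideal.exists_le_prime_disjoint _ S hS
  let K := FractionRing (A ⧸ P)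
  let φ : A →+* K := (algebraMap (A ⧸ P) K).comp (Ideal.Quotient.mk P)
  let s : Set K := Set.range (φ.comp f)
  have hmem : φ x ∈ (⨅ V : {V : ValuationSubring K // s ⊆ V.toSubring}, V.1.toSubring) := by
    rw [Subring.mem_iInf]
    exact fun V => h K φ V.1 fun b => V.2 ⟨b, rfl⟩
  rw [iInf_valuationSubring_superset] at hmem
  have hint : IsIntegral (Subring.closure s) (φ x) := hmem
  have hcl : Subring.closure s = (φ.comp f).range := by
    have : s = ((φ.comp f).range : Set K) := (RingHom.coe_range _).symm
    rw [this, Subring.closure_eq]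
  obtain ⟨p, hp, hpx⟩ := hint
  obtain ⟨q, hq, -, hqm⟩ := Polynomial.lifts_and_degree_eq_and_monic
    (f := (φ.comp f).rangeRestrict)
    (p := p.map (Subring.inclusion hcl.le))
    ((Polynomial.lifts_iff_coeff_lifts _).2 fun n => RingHom.rangeRestrict_surjective _ _) (hp.map _)
  have he : q.eval₂ (φ.comp f) (φ x) = 0 := by
    rw [show φ.comp f = ((φ.comp f).range.subtype).comp (φ.comp f).rangeRestrict from RingHom.ext fun _ => rfl,
      ← Polynomial.eval₂_map, hq, Polynomial.eval₂_map]
    exact hpx
  rw [← Polynomial.hom_eval₂] at he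
  have h1 : Ideal.Quotient.mk P (q.eval₂ f x) = 0 := IsFractionRing.injective (A ⧸ P) K
    (by rw [map_zero]; exact he)
  exact Set.disjoint_left.1 hdisj (Ideal.Quotient.eq_zero_iff_mem.1 h1) ⟨q, hqm, rfl⟩

/-- extension of a square matrix by a block `1` in the top corner -/
def cornerExt {R : Type w} [CommRing R] {n : ℕ} :
    Matrix (Fin n) (Fin n) R →* Matrix (Fin (n + 1)) (Fin (n + 1)) R where
  toFun M := Matrix.of (Fin.cases (Fin.cases 1 0) fun i => Fin.cases 0 (M i))
  map_one' := by
    ext i j
    induction i using Fin.cases <;> induction j using Fin.cases <;>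
      simp [Matrix.one_apply, Fin.succ_ne_zero, Ne.symm (Fin.succ_ne_zero _)]
  map_mul' M N := by
    ext i j
    induction i using Fin.cases <;> induction j using Fin.cases <;>
      simp [Matrix.mul_apply, Fin.sum_univ_succ]

theorem cornerExt_map {R S : Type w} [CommRing R] [CommRing S] (f : R →+* S) {n : ℕ}
    (M : Matrix (Fin n) (Fin n) R) : (cornerExt M).map f = cornerExt (M.map f) := by
  ext i j
  induction i using Fin.cases <;> induction j using Fin.cases <;> simp [cornerExt]

/-- `1 + c·e₀ᵀ` for a column `c` supported below the first row -/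
def colUnit {R : Type w} [CommRing R] {n : ℕ} (c : Fin n → R) :
    (Matrix (Fin (n + 1)) (Fin (n + 1)) R)ˣ where
  val := Matrix.of fun i j => if j = 0 then Fin.cases 1 c i else if i = j then 1 else 0
  inv := Matrix.of fun i j => if j = 0 then Fin.cases 1 (-c) i else if i = j then 1 else 0
  val_inv := by
    ext i j
    induction i using Fin.cases <;> induction j using Fin.cases <;>
      simp [Matrix.mul_apply, Fin.sum_univ_succ, Matrix.one_apply, Fin.succ_ne_zero,
        Ne.symm (Fin.succ_ne_zero _)]
  inv_val := by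
    ext i j
    induction i using Fin.cases <;> induction j using Fin.cases <;>
      simp [Matrix.mul_apply, Fin.sum_univ_succ, Matrix.one_apply, Fin.succ_ne_zero,
        Ne.symm (Fin.succ_ne_zero _)]

/-- **Smith normal form** over a valuation ring of a field. -/
theorem exists_smith {K : Type u} [Field K] (O : ValuationSubring K) :
    ∀ (n : ℕ) (g : Matrix (Fin n) (Fin n) K),
      ∃ (u v : (Matrix (Fin n) (Fin n) O)ˣ) (d : Fin n → K),
        g = u.1.map O.subtype * Matrix.diagonal d * v.1.map O.subtype := by
  intro n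
  induction n with
  | zero => exact fun g => ⟨1, 1, fun i => i.elim0, Subsingleton.elim _ _⟩
  | succ n ih =>
    intro g
    classical
    by_cases hg : g = 0
    · exact ⟨1, 1, 0, by simp [hg]⟩
    obtain ⟨⟨p, q⟩, -, hmax⟩ := Finset.univ.exists_max_image
      (fun x : Fin (n + 1) × Fin (n + 1) => O.valuation (g x.1 x.2)) Finset.univ_nonempty
    set a := g p q with ha
    have ha0 : a ≠ 0 := by
      intro h0
      apply hg
      ext i j
      have h1 := hmax (i, j) (Finset.mem_univ _)
      simp only at h1
      rw [h0, map_zero, le_zero_iff, map_eq_zero] at h1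
      exact h1
    have hO : ∀ i j, g i j / a ∈ O := by
      intro i j
      rw [← O.valuation_le_one_iff, map_div₀]
      exact div_le_one_of_le₀ (hmax (i, j) (Finset.mem_univ _)) zero_le
    let sp : Equiv.Perm (Fin (n + 1)) := Equiv.swap 0 p
    let sq : Equiv.Perm (Fin (n + 1)) := Equiv.swap 0 q
    let g1 : Matrix (Fin (n + 1)) (Fin (n + 1)) K := g.submatrix sp sq
    have hg1 : g1 0 0 = a := by simp [g1, sp, sq, ha]
    let c : Fin n → O := fun i => ⟨g1 i.succ 0 / a, hO _ _⟩
    let r : Fin n → O := fun j => ⟨g1 0 j.succ / a, hO _ _⟩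
    let g' : Matrix (Fin n) (Fin n) K :=
      Matrix.of fun i j => g1 i.succ j.succ - g1 i.succ 0 * g1 0 j.succ / a
    obtain ⟨u', v', d', hd'⟩ := ih g'
    let P : (Matrix (Fin (n + 1)) (Fin (n + 1)) O)ˣ :=
      ⟨sp.permMatrix O, sp⁻¹.permMatrix O,
        by rw [← Matrix.permMatrix_mul]; simp, by rw [← Matrix.permMatrix_mul]; simp⟩
    let Q : (Matrix (Fin (n + 1)) (Fin (n + 1)) O)ˣ :=
      ⟨sq.permMatrix O, sq⁻¹.permMatrix O,
        by rw [← Matrix.permMatrix_mul]; simp, by rw [← Matrix.permMatrix_mul]; simp⟩
    let U : (Matrix (Fin (n + 1)) (Fin (n + 1)) O)ˣ :=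
      ⟨(colUnit r).1.transpose, (colUnit r).inv.transpose,
        by rw [← Matrix.transpose_mul, (colUnit r).inv_val, Matrix.transpose_one],
        by rw [← Matrix.transpose_mul, (colUnit r).val_inv, Matrix.transpose_one]⟩
    refine ⟨P * colUnit c * Units.map cornerExt u', Units.map cornerExt v' * U * Q,
      Fin.cons a d', ?_⟩
    have hdiag : ((cornerExt u'.1).map O.subtype * Matrix.diagonal (Fin.cons a d' : Fin (n + 1) → K) *
        (cornerExt v'.1).map O.subtype)
        = Matrix.of (Fin.cases (Fin.cases a 0) fun i => Fin.cases 0 (g' i)) := by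
      rw [cornerExt_map, cornerExt_map]
      ext i j
      induction i using Fin.cases <;> induction j using Fin.cases <;>
        simp [Matrix.mul_apply, Fin.sum_univ_succ, cornerExt, Matrix.diagonal_apply, Fin.succ_ne_zero,
          Ne.symm (Fin.succ_ne_zero _), hd']
    have hLU : (colUnit c).1.map O.subtype *
        Matrix.of (Fin.cases (Fin.cases a 0) fun i => Fin.cases 0 (g' i)) *
        ((colUnit r).1.transpose).map O.subtype = g1 := by
      ext i j
      induction i using Fin.cases <;> induction j using Fin.cases <;>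
        simp [Matrix.mul_apply, Fin.sum_univ_succ, colUnit, c, r, g', hg1, Fin.succ_ne_zero,
          Ne.symm (Fin.succ_ne_zero _), apply_ite (fun z : O => (z : K))] <;> field_simp
      ring
    have hperm : g = (sp.permMatrix O).map O.subtype * g1 * (sq.permMatrix O).map O.subtype := by
      rw [Equiv.Perm.permMatrix, Equiv.Perm.permMatrix, PEquiv.map_toMatrix, PEquiv.map_toMatrix,
        PEquiv.toMatrix_toPEquiv_mul, PEquiv.mul_toMatrix_toPEquiv, Matrix.submatrix_submatrix]
      ext i j
      simp [g1, sp, sq]
    rw [hperm, ← hLU, ← hdiag]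
    simp only [Units.val_mul, Units.coe_map, Matrix.map_mul]
    simp only [← Matrix.mul_assoc]
    rfl

end Groth.Agent.GIT36
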