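import Groth.Agent.GIT36.Criterion
import Groth.Agent.GIT36.Place
import Groth.Agent.Hopf35.ReyUnique
import Groth.Agent.S12559

/-!
# A Hilbert-Mumford criterion for semistability of forms
-/

set_option autoImplicit false

noncomputable section

open MvPolynomial

namespace Groth.Agent.GIT36

universe u

variable {k : Type u} [Field k] {N m : ℕ}

/-- no weight vector strictly destabilises the form, over any algebraically closed field over `k` -/
def NoStrict (a : CoordGrp.FormIdx N m → k) : Prop :=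
  ∀ (κ : Type u) [Field κ] [IsAlgClosed κ] (ι : k →+* κ) (U : Matrix (Fin N) (Fin N) κ), IsUnit U.det →
    ∀ (Γ : Type u) [AddCommGroup Γ] [LinearOrder Γ] [IsOrderedAddMonoid Γ] (r : Fin N → Γ),
      ∑ i, r i = 0 →
        ∃ e : Fin N →₀ ℕ, coeff e (sub U (map ι (CoordGrp.formPoly a))) ≠ 0 ∧ 0 ≤ ∑ i, e i • r i

theorem noStrict_of_antitone (a : CoordGrp.FormIdx N m → k)
    (h : ∀ (κ : Type u) [Field κ] [IsAlgClosed κ] (ι : k →+* κ) (U : Matrix (Fin N) (Fin N) κ),
      IsUnit U.det → ∀ (Γ : Type u) [AddCommGroup Γ] [LinearOrder Γ] [IsOrderedAddMonoid Γ]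
        (r : Fin N → Γ), Antitone r → ∑ i, r i = 0 →
        ∃ e : Fin N →₀ ℕ, coeff e (sub U (map ι (CoordGrp.formPoly a))) ≠ 0 ∧ 0 ≤ ∑ i, e i • r i) :
    NoStrict a := by
  intro κ _ _ ι U hU Γ _ _ _ r hr
  let σ : Equiv.Perm (Fin N) := Tuple.sort (OrderDual.toDual ∘ r)
  have hanti : Antitone (r ∘ σ) := fun i j hij => Tuple.monotone_sort (OrderDual.toDual ∘ r) hij
  have hdet : IsUnit (U.submatrix id σ).det := by
    rw [Matrix.det_permute']
    exact IsUnit.mul ((σ.sign.isUnit).map (Int.castRingHom κ)) hU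
  obtain ⟨e, he, hpos⟩ := h κ ι (U.submatrix id σ) hdet Γ (r ∘ σ) hanti
    (by rw [← hr]; exact Equiv.sum_comp σ r)
  rw [sub_submatrix] at he
  obtain ⟨e', rfl, he'⟩ := coeff_rename_ne_zero _ _ _ he
  refine ⟨e', he', hpos.trans_eq ?_⟩
  rw [← Equiv.sum_comp σ.symm (fun i => (Finsupp.mapDomain σ.symm e') i • (r ∘ σ) i)]
  refine Finset.sum_congr rfl fun i _ => ?_
  rw [Finsupp.mapDomain_apply σ.symm.injective]
  simp

set_option synthInstance.maxHeartbeats 100000 in
set_option maxHeartbeats 1000000 in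
theorem not_noStrict_of_mem_closure [IsAlgClosed k] (a : CoordGrp.FormIdx N m → k)
    (hcl : RingHom.ker (orb a) ≤
      RingHom.ker (GLin.vecPt k (CoordGrp.FormIdx N m) (fun _ => (0 : k))))
    (h : NoStrict a) : False := by
  classical
  set φ := orb a with hφ
  set yv : CoordGrp.FormRing k N m →ₐ[k] k := GLin.vecPt k (CoordGrp.FormIdx N m) (fun _ => (0 : k))
  haveI : (RingHom.ker yv).IsPrime := RingHom.ker_isPrime _
  obtain ⟨𝔮, h𝔮, h𝔮le⟩ :=
    Ideal.exists_minimalPrimes_le (I := RingHom.ker φ.toRingHom) (J := RingHom.ker yv) hcl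
  have h𝔮' : 𝔮 ∈ ((⊥ : Ideal (CoordGrp.SLn N k)).comap φ.toRingHom).minimalPrimes := by
    rwa [← RingHom.ker_eq_comap_bot]
  obtain ⟨P, hP, -, hPq⟩ := Ideal.exists_comap_eq_of_mem_minimalPrimes φ.toRingHom 𝔮 h𝔮'
  haveI := hP
  let L := FractionRing (CoordGrp.SLn N k ⧸ P)
  let τ : CoordGrp.SLn N k →ₐ[k] L :=
    (IsScalarTower.toAlgHom k (CoordGrp.SLn N k ⧸ P) L).comp (Ideal.Quotient.mkₐ k P)
  have hker : RingHom.ker (τ.comp φ) ≤ RingHom.ker yv := by
    intro f hf
    apply h𝔮le
    rw [← hPq, Ideal.mem_comap]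
    refine Ideal.Quotient.eq_zero_iff_mem.1 (IsFractionRing.injective (CoordGrp.SLn N k ⧸ P) L ?_)
    rw [map_zero]
    exact hf
  obtain ⟨O, hk, hmemO, res, hres, -, hresb⟩ := exists_place (τ.comp φ) yv hker
  set g := ptMat τ with hg
  obtain ⟨u, v, d, hgd⟩ := exists_smith O N g
  let ι₀ : k →+* O := (algebraMap k L).codRestrict O.toSubring hk
  have hι : O.subtype.comp ι₀ = algebraMap k L := RingHom.ext fun _ => rfl
  let F₀ : MvPolynomial (Fin N) O := map ι₀ (CoordGrp.formPoly a)
  let G : MvPolynomial (Fin N) O := CoordGrp.formPoly (fun p => (⟨τ (φ (X p)), hmemO _⟩ : O))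
  have hG : map O.subtype G = sub g (map (algebraMap k L) (CoordGrp.formPoly a)) := by
    rw [hg, ← formPoly_orb, map_formPoly]
    rfl
  have hGres : map (IsLocalRing.residue O) G = 0 := by
    have h0 : ∀ p : CoordGrp.FormIdx N m, IsLocalRing.residue O (⟨τ (φ (X p)), hmemO _⟩ : O) = 0 := by
      intro p
      rw [IsLocalRing.residue_eq_zero_iff, ← hres, RingHom.mem_ker]
      show res ⟨(τ.comp φ) (X p), hmemO _⟩ = 0
      rw [hresb]
      simp [yv, GLin.vecPt]
    rw [map_formPoly]
    simp [CoordGrp.formPoly, h0]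
  have hv : v.1.map O.subtype * (v⁻¹).1.map O.subtype = 1 := by
    rw [← Matrix.map_mul, Units.mul_inv, Matrix.map_one _ (map_zero _) (map_one _)]
  have hkey : map O.subtype (sub (v⁻¹).1 G)
      = sub (Matrix.diagonal d) (map O.subtype (sub u.1 F₀)) := by
    rw [map_sub', hG, sub_mul, hgd, Matrix.mul_assoc _ _ ((v⁻¹).1.map O.subtype), hv,
      Matrix.mul_one, ← sub_mul, map_sub', map_map, hι]
  have hsmall : ∀ e, O.valuation ((O.subtype (coeff e (sub u.1 F₀))) * ∏ i, d i ^ e i) < 1 := by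
    intro e
    have h1 := congrArg (coeff e) hkey
    rw [coeff_map, coeff_sub_diagonal, coeff_map] at h1
    rw [← h1]
    refine (O.valuation_lt_one_iff _).1 ((IsLocalRing.residue_eq_zero_iff _).1 ?_)
    rw [← coeff_map, map_sub', hGres, map_zero, coeff_zero]
  have hdet : g.det = 1 := det_ptMat τ
  rw [hgd, Matrix.det_mul, Matrix.det_mul, Matrix.det_diagonal, ← RingHom.mapMatrix_apply,
    ← RingHom.mapMatrix_apply, ← RingHom.map_det, ← RingHom.map_det] at hdet
  have hu : IsUnit u.1.det := (Matrix.isUnit_iff_isUnit_det _).1 u.isUnit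
  have hv' : IsUnit v.1.det := (Matrix.isUnit_iff_isUnit_det _).1 v.isUnit
  have hd0 : ∀ i, d i ≠ 0 := by
    intro i hi
    rw [Finset.prod_eq_zero (Finset.mem_univ i) hi, mul_zero, zero_mul] at hdet
    exact zero_ne_one hdet
  have hvprod : ∏ i, O.valuation (d i) = 1 := by
    have h := congrArg O.valuation hdet
    rw [map_mul, map_mul, map_one, map_prod,
      show O.valuation (O.subtype u.1.det) = 1 from (O.valuation_eq_one_iff _).1 hu,
      show O.valuation (O.subtype v.1.det) = 1 from (O.valuation_eq_one_iff _).1 hv',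
      one_mul, mul_one] at h
    exact h
  let w : Fin N → O.ValueGroupˣ := fun i =>
    Units.mk0 (O.valuation (d i)) ((O.valuation.ne_zero_iff).2 (hd0 i))
  let r : Fin N → Additive O.ValueGroupˣ := fun i => Additive.ofMul (w i)
  have hr : ∑ i, r i = 0 := by
    show Additive.ofMul (∏ i, w i) = Additive.ofMul 1
    congr 1
    apply Units.ext
    rw [Units.coe_prod, Units.val_one]
    exact hvprod
  let κ₀ := IsLocalRing.ResidueField O
  let κ := AlgebraicClosure κ₀
  let rs : O →+* κ := (algebraMap κ₀ κ).comp (IsLocalRing.residue O)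
  have hU : IsUnit (u.1.map rs).det := by
    rw [← RingHom.mapMatrix_apply, ← RingHom.map_det]
    exact hu.map rs
  obtain ⟨e, hne, hpos⟩ := h κ (rs.comp ι₀) (u.1.map rs) hU (Additive O.ValueGroupˣ) r hr
  rw [← map_map, ← map_sub', coeff_map] at hne
  have hc : IsUnit (coeff e (sub u.1 F₀)) := by
    by_contra hc
    refine hne ?_
    show algebraMap κ₀ κ (IsLocalRing.residue O _) = 0
    rw [(IsLocalRing.residue_eq_zero_iff _).2 hc, map_zero]
  have h1 : O.valuation (∏ i, d i ^ e i) < 1 := by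
    have h := hsmall e
    rwa [map_mul, show O.valuation (O.subtype (coeff e (sub u.1 F₀))) = 1 from
      (O.valuation_eq_one_iff _).1 hc, one_mul] at h
  have h2 : ∑ i, e i • r i < 0 := by
    show Additive.ofMul (∏ i, w i ^ e i) < Additive.ofMul 1
    rw [Additive.ofMul_lt]
    rw [← Units.val_lt_val, Units.val_one, Units.coe_prod]
    simpa [w, map_prod, map_pow] using h1
  exact absurd hpos (not_le.2 h2)

/-- **criterion for semistability** -/
theorem isSemistableVec_of_noStrict [IsAlgClosed k] [CharZero k] (a : CoordGrp.FormIdx N m → k)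
    (h : NoStrict a) :
    @GLin.IsSemistableVec k _ (CoordGrp.SLn N k) _ _ (CoordGrp.FormIdx N m) (GLin.comodAlong (toSL N k) (CoordGrp.formsCoact k N m))
      (GLin.isCoactAlg_comodAlong (toSL N k) (CoordGrp.formsCoact k N m)
        (CoordGrp.formsCoact_isCoactAlg k N m))
      a := by
  classical
  letI := GLin.comodAlong (toSL N k) (CoordGrp.formsCoact k N m)
  haveI := GLin.isCoactAlg_comodAlong (toSL N k) (CoordGrp.formsCoact k N m)
    (CoordGrp.formsCoact_isCoactAlg k N m)
  haveI := finiteType_SLn (k := k) (N := N)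
  have hlin : GLin.IsLinear k (CoordGrp.SLn N k) (CoordGrp.FormIdx N m) :=
    GLin.isLinear_comodAlong (toSL N k) (CoordGrp.formsCoact k N m) (CoordGrp.formsCoact_isLinear k N m)
  rw [Hopf35.ReyUnique.isSemistableVec_iff (S12559.result k N) hlin]
  intro hcl
  exact not_noStrict_of_mem_closure a hcl h

end Groth.Agent.GIT36
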