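import Groth.Agent.GIT36.Cubic
import Groth.Agent.GIT36.Semistable

/-!
# Stability and semistability of plane cubics
-/

set_option autoImplicit false

noncomputable section

open MvPolynomial

namespace Groth.Agent.GIT36

universe u

variable {k : Type u} [Field k] [CharZero k]

theorem grad_basis_eq_zero_iff {N : ℕ} [NeZero N] {G : MvPolynomial (Fin N) k} (hG : G.IsHomogeneous 3) (j : Fin N) :
    grad G (Pi.single 0 1) j = 0 ↔ coeff (Finsupp.single 0 2 + Finsupp.single j 1) G = 0 := by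
  rw [grad, eval_basis (hG.pderiv (i := j)) 0, coeff_pderiv]
  exact ⟨fun h => (mul_eq_zero.1 h).resolve_right (Nat.cast_add_one_ne_zero _), fun h => by rw [h, zero_mul]⟩

theorem hess_basis_eq_zero_iff {N : ℕ} [NeZero N] {G : MvPolynomial (Fin N) k} (hG : G.IsHomogeneous 3) (i j : Fin N) :
    hess G (Pi.single 0 1) i j = 0 ↔
      coeff (Finsupp.single 0 1 + Finsupp.single i 1 + Finsupp.single j 1) G = 0 := by
  rw [hess, Matrix.of_apply, eval_basis ((hG.pderiv (i := j)).pderiv (i := i)) 0, coeff_pderiv, coeff_pderiv]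
  exact ⟨fun h => (mul_eq_zero.1 ((mul_eq_zero.1 h).resolve_right (Nat.cast_add_one_ne_zero _))).resolve_right
    (Nat.cast_add_one_ne_zero _), fun h => by simp [show _ = (0 : k) from h]⟩

omit [CharZero k] in
theorem hess_mulVec_self {N : ℕ} {F : MvPolynomial (Fin N) k} (hF : F.IsHomogeneous 3) (v : Fin N → k)
    (hg : grad F v = 0) : (hess F v).mulVec v = 0 := by
  funext i
  have h := congrArg (eval v) ((hF.pderiv (i := i)).sum_X_mul_pderiv)
  rw [map_nsmul, show eval v (pderiv i F) = 0 from congrFun hg i, smul_zero, map_sum] at h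
  simp only [Matrix.mulVec, dotProduct, hess, Matrix.of_apply, Pi.zero_apply]
  rw [← h]
  refine Finset.sum_congr rfl fun j _ => ?_
  rw [map_mul, eval_X, mul_comm, pderiv_pderiv_comm]

/-- singular at `(1:0:0)` -/
def singExp : Set (Fin 3 →₀ ℕ) := {e | e.degree = 3 ∧ 2 ≤ e 0}

/-- singular at `(1:0:0)`, not an ordinary node, `e₁` in the kernel of the Hessian -/
def cuspExp : Set (Fin 3 →₀ ℕ) := {e | e.degree = 3 ∧ (2 ≤ e 0 ∨ (e 0 = 1 ∧ 1 ≤ e 1))}

omit [CharZero k] in
theorem exists_cols (v w : Fin 3 → k) (hli : LinearIndependent k ![v, w]) :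
    ∃ U : Matrix (Fin 3) (Fin 3) k, IsUnit U.det ∧ U.mulVec (Pi.single 0 1) = v ∧ U.mulVec (Pi.single 1 1) = w := by
  obtain ⟨x, hx⟩ := exists_linearIndependent_snoc_of_lt_finrank hli (by rw [Module.finrank_fin_fun]; norm_num)
  refine ⟨(Matrix.of (Fin.snoc ![v, w] x)).transpose, ?_, ?_, ?_⟩
  · rw [← Matrix.isUnit_iff_isUnit_det, ← Matrix.linearIndependent_cols_iff_isUnit]
    exact hx
  · rw [Matrix.mulVec_single_one]; rfl
  · rw [Matrix.mulVec_single_one]; rfl

omit [CharZero k] in
theorem exists_second (v : Fin 3 → k) (hv : v ≠ 0) : ∃ w, LinearIndependent k ![v, w] := by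
  obtain ⟨w, hw⟩ := exists_linearIndependent_snoc_of_lt_finrank (v := ![v])
    ((linearIndependent_unique_iff (v := ![v])).2 (by simpa using hv)) (by rw [Module.finrank_fin_fun]; norm_num)
  refine ⟨w, ?_⟩
  rwa [show ![v, w] = Fin.snoc ![v] w from funext fun i => by fin_cases i <;> rfl]

theorem vanish_sing {F : MvPolynomial (Fin 3) k} (hF : F.IsHomogeneous 3) (U : Matrix (Fin 3) (Fin 3) k)
    (v : Fin 3 → k) (hU : U.mulVec (Pi.single 0 1) = v) (hg : grad F v = 0) :
    ∀ e ∈ singExp, coeff e (sub U F) = 0 := by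
  rintro e ⟨hdeg, h2⟩
  have hle : Finsupp.single 0 2 ≤ e := Finsupp.single_le_iff.2 h2
  obtain ⟨j, hj⟩ := degree_one_single (e := e - Finsupp.single 0 2) (by
    have := congrArg Finsupp.degree (add_tsub_cancel_of_le hle)
    rw [map_add, Finsupp.degree_single, hdeg] at this
    omega)
  rw [← add_tsub_cancel_of_le hle, ← hj, ← grad_basis_eq_zero_iff (isHomogeneous_sub U hF),
    grad_sub, hU, hg, Matrix.mulVec_zero]
  rfl

theorem sing_of_vanish {F : MvPolynomial (Fin 3) k} (hF : F.IsHomogeneous 3) (M : Matrix (Fin 3) (Fin 3) k)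
    (hM : IsUnit M.det) (hE : ∀ e ∈ singExp, coeff e (sub M F) = 0) :
    grad F (M.mulVec (Pi.single 0 1)) = 0 ∧ M.mulVec (Pi.single 0 1) ≠ 0 := by
  refine ⟨Matrix.eq_zero_of_mulVec_eq_zero (M := M.transpose) (by rw [Matrix.det_transpose]; exact hM.ne_zero) ?_,
    fun h0 => ?_⟩
  · rw [← grad_sub]
    funext j
    exact (grad_basis_eq_zero_iff (isHomogeneous_sub M hF) j).2 (hE _ ⟨by simp, by simp⟩)
  · have := congrFun (Matrix.eq_zero_of_mulVec_eq_zero hM.ne_zero h0) 0
    simp at this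

theorem planeCubic_stable_iff [IsAlgClosed k] (a : CoordGrp.FormIdx 3 3 → k) :
    @GLin.IsStableVec k _ (CoordGrp.SLn 3 k) _ _ (CoordGrp.FormIdx 3 3) (GLin.comodAlong (toSL 3 k) (CoordGrp.formsCoact k 3 3))
      (GLin.isCoactAlg_comodAlong (toSL 3 k) (CoordGrp.formsCoact k 3 3)
        (CoordGrp.formsCoact_isCoactAlg k 3 3))
      a ↔ ∀ w : Fin 3 → k, w ≠ 0 → ∃ i, eval w (pderiv i (CoordGrp.formPoly a)) ≠ 0 := by
  classical
  refine ⟨fun hst w hw => ?_, fun h => isStableVec_of_noDestab a (noDestab_of_smooth 3 le_rfl a h)⟩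
  by_contra hall
  push Not at hall
  obtain ⟨w', hli⟩ := exists_second w hw
  obtain ⟨U, hU, hU0, -⟩ := exists_cols w w' hli
  obtain ⟨M, hM, hMe⟩ := exists_descend (by norm_num) a singExp (RingHom.id k) U hU (fun e he => by
    rw [map_id]; exact vanish_sing (isHomogeneous_formPoly a) U w hU0 (funext hall) e he)
  refine not_isStableVec_of_weights a M hM ![2, -1, -1] (by simp [Fin.sum_univ_three])
    (fun h0 => by simpa using congrFun h0 0) (fun e he => ?_) hst
  have hdeg := coeff_eq_zero_of_formPoly a M he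
  have h2 : ¬ 2 ≤ e 0 := fun h2 => he (hMe e ⟨hdeg, h2⟩)
  rw [Finsupp.degree_eq_sum, Fin.sum_univ_three] at hdeg
  simp [Fin.sum_univ_three]
  omega

theorem planeCubic_semistable_iff [IsAlgClosed k] (a : CoordGrp.FormIdx 3 3 → k) :
    @GLin.IsSemistableVec k _ (CoordGrp.SLn 3 k) _ _ (CoordGrp.FormIdx 3 3) (GLin.comodAlong (toSL 3 k) (CoordGrp.formsCoact k 3 3))
      (GLin.isCoactAlg_comodAlong (toSL 3 k) (CoordGrp.formsCoact k 3 3)
        (CoordGrp.formsCoact_isCoactAlg k 3 3))
      a ↔ ∀ w : Fin 3 → k, w ≠ 0 → (∀ i, eval w (pderiv i (CoordGrp.formPoly a)) = 0) →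
        (hess (CoordGrp.formPoly a) w).rank = 2 := by
  classical
  have hF : (CoordGrp.formPoly a).IsHomogeneous 3 := isHomogeneous_formPoly a
  constructor
  · intro hss w hw hgr
    by_contra hrank
    set H := hess (CoordGrp.formPoly a) w
    have hw0 : H.mulVec w = 0 := hess_mulVec_self hF w (funext hgr)
    have hker : 1 < Module.finrank k (LinearMap.ker H.mulVecLin) := by
      have h := LinearMap.finrank_range_add_finrank_ker H.mulVecLin
      rw [Module.finrank_fin_fun, ← Matrix.rank] at h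
      have : 0 < Module.finrank k (LinearMap.ker H.mulVecLin) :=
        Nat.pos_of_ne_zero fun h0 => by
          rw [Submodule.finrank_eq_zero] at h0
          have hm : w ∈ LinearMap.ker H.mulVecLin := hw0
          rw [h0, Submodule.mem_bot] at hm
          exact hw hm
      omega
    have hli1 : LinearIndependent k ![(⟨w, hw0⟩ : LinearMap.ker H.mulVecLin)] :=
      (linearIndependent_unique_iff (v := ![(⟨w, hw0⟩ : LinearMap.ker H.mulVecLin)])).2 (by simpa [Subtype.ext_iff] using hw)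
    obtain ⟨w', hli⟩ := exists_linearIndependent_snoc_of_lt_finrank hli1 hker
    have hli2 : LinearIndependent k ![w, (w' : Fin 3 → k)] := by
      have h2 := hli.map' (LinearMap.ker H.mulVecLin).subtype (Submodule.ker_subtype _)
      rwa [show ((LinearMap.ker H.mulVecLin).subtype ∘ Fin.snoc ![(⟨w, hw0⟩ : LinearMap.ker H.mulVecLin)] w')
        = ![w, (w' : Fin 3 → k)] from funext fun i => by fin_cases i <;> rfl] at h2
    obtain ⟨U, hU, hU0, hU1⟩ := exists_cols w w' hli2
    obtain ⟨M, hM, hMe⟩ := exists_descend (by norm_num) a cuspExp (RingHom.id k) U hU (fun e he => by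
      rw [map_id]
      obtain ⟨hdeg, h2 | ⟨h0, h1⟩⟩ := he
      · exact vanish_sing hF U w hU0 (funext hgr) e ⟨hdeg, h2⟩
      have hle : Finsupp.single 0 1 + Finsupp.single 1 1 ≤ e := fun i => by
        fin_cases i <;> simp <;> omega
      obtain ⟨j, hj⟩ := degree_one_single (e := e - (Finsupp.single 0 1 + Finsupp.single 1 1)) (by
        have := congrArg Finsupp.degree (add_tsub_cancel_of_le hle)
        rw [map_add, map_add, Finsupp.degree_single, Finsupp.degree_single, hdeg] at this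
        omega)
      rw [← add_tsub_cancel_of_le hle, ← hj, add_right_comm, ← hess_basis_eq_zero_iff (isHomogeneous_sub U hF),
        hess_sub, hU0]
      have hcol : (U.transpose * H * U) j 1 = (U.transpose * H * U).mulVec (Pi.single 1 1) j := by
        rw [Matrix.mulVec_single_one]; rfl
      rw [hcol, ← Matrix.mulVec_mulVec, hU1, ← Matrix.mulVec_mulVec,
        show H.mulVec (w' : Fin 3 → k) = 0 from w'.2, Matrix.mulVec_zero]
      rfl)
    refine hss (isNullform_of_weights a M hM ![3, -1, -2] (by simp [Fin.sum_univ_three]) fun e he => ?_)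
    have hdeg := coeff_eq_zero_of_formPoly a M he
    have hnot : ¬ (2 ≤ e 0 ∨ (e 0 = 1 ∧ 1 ≤ e 1)) := fun h => he (hMe e ⟨hdeg, h⟩)
    rw [Finsupp.degree_eq_sum, Fin.sum_univ_three] at hdeg
    simp [Fin.sum_univ_three]
    omega
  · intro h
    refine isSemistableVec_of_noStrict a (noStrict_of_antitone a fun κ _ _ ι U hU Γ _ _ _ r hanti hr => ?_)
    by_contra hcon
    push Not at hcon
    have h01 : r 1 ≤ r 0 := hanti (by decide)
    have h12 : r 2 ≤ r 1 := hanti (by decide)
    rw [Fin.sum_univ_three] at hr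
    obtain ⟨M, hM, hMe⟩ := exists_descend (by norm_num) a cuspExp ι U hU (fun e ⟨hdeg, hcase⟩ => by
      by_contra hne
      refine absurd (hcon e hne) (not_lt.2 ?_)
      rw [Finsupp.degree_eq_sum, Fin.sum_univ_three] at hdeg
      rw [Fin.sum_univ_three]
      rcases hcase with h2 | ⟨h0, h1⟩
      · rcases (show e 0 = 2 ∧ e 1 = 1 ∧ e 2 = 0 ∨ e 0 = 2 ∧ e 1 = 0 ∧ e 2 = 1 ∨ e 0 = 3 ∧ e 1 = 0 ∧ e 2 = 0 by omega) with
          ⟨a0, a1, a2⟩ | ⟨a0, a1, a2⟩ | ⟨a0, a1, a2⟩ <;>
          rw [a0, a1, a2] <;> simp only [one_smul, zero_smul, add_zero]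
        · rw [show 2 • r 0 + r 1 = (r 0 + r 1 + r 2) + (r 0 - r 2) from by abel, hr, zero_add]
          exact sub_nonneg.2 (h12.trans h01)
        · rw [show 2 • r 0 + r 2 = (r 0 + r 1 + r 2) + (r 0 - r 1) from by abel, hr, zero_add]
          exact sub_nonneg.2 h01
        · refine nsmul_nonneg ?_ 3
          by_contra hlt
          push Not at hlt
          exact absurd hr (add_neg (add_neg hlt (h01.trans_lt hlt)) ((h12.trans h01).trans_lt hlt)).ne
      · rcases (show e 1 = 1 ∧ e 2 = 1 ∨ e 1 = 2 ∧ e 2 = 0 by omega) with ⟨h1, h2⟩ | ⟨h1, h2⟩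
        · rw [h0, h1, h2, one_smul, one_smul, one_smul, hr]
        · rw [h0, h1, h2, one_smul, zero_smul, add_zero, two_nsmul, ← add_assoc,
            eq_neg_of_add_eq_zero_left hr, neg_add_eq_sub]
          exact sub_nonneg.2 h12)
    have hMu : IsUnit M.det := by rw [hM]; exact isUnit_one
    set v := M.mulVec (Pi.single 0 1) with hv
    obtain ⟨hg, hv0⟩ := sing_of_vanish hF M hMu (fun e he => hMe e ⟨he.1, Or.inl he.2⟩)
    have hrank := h v hv0 (congrFun hg)
    have hMt : IsUnit M.transpose.det := by rwa [Matrix.det_transpose]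
    set G := sub M (CoordGrp.formPoly a)
    have h2 : (hess G (Pi.single 0 1)).rank = 2 := by
      rw [hess_sub, Matrix.rank_mul_eq_left_of_isUnit_det _ _ hMu,
        Matrix.rank_mul_eq_right_of_isUnit_det _ _ hMt, ← hv]
      exact hrank
    have hz : ∀ i j : Fin 3, i = 0 ∨ i = 1 → hess G (Pi.single 0 1) i j = 0 := fun i j hi =>
      (hess_basis_eq_zero_iff (isHomogeneous_sub M hF) i j).2 (hMe _ (by
        refine ⟨by simp, ?_⟩
        rcases hi with rfl | rfl
        · left; simp <;> omega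
        · have h0 : 1 ≤ (Finsupp.single (0 : Fin 3) 1 + Finsupp.single 1 1 + Finsupp.single j 1 : Fin 3 →₀ ℕ) 0 := by simp
          have h1 : 1 ≤ (Finsupp.single (0 : Fin 3) 1 + Finsupp.single 1 1 + Finsupp.single j 1 : Fin 3 →₀ ℕ) 1 := by simp
          omega))
    have hfac : hess G (Pi.single 0 1) = Matrix.of (![![0], ![0], ![1]] : Fin 3 → Fin 1 → k) *
        Matrix.of ![hess G (Pi.single 0 1) 2] := by
      ext i j
      fin_cases i <;> simp [Matrix.mul_apply, hz]
    rw [hfac] at h2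
    exact absurd h2 ((Matrix.rank_mul_le_left _ _).trans (Matrix.rank_le_width _) |>.trans_lt (by norm_num)).ne

end Groth.Agent.GIT36
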