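import Groth.Agent.GIT36.Criterion
import Groth.Agent.GIT36.Destab

/-!
# Stability of point configurations (products of linear forms)
-/

set_option autoImplicit false

noncomputable section

open MvPolynomial

namespace Groth.Agent.GIT36

universe u v

section Prod

variable {k : Type u} [Field k] {N d : ℕ}

/-- the linear form with coefficients `p` -/
def lf (p : Fin N → k) : MvPolynomial (Fin N) k := ∑ j, C (p j) * X j

theorem sub_lf (U : Matrix (Fin N) (Fin N) k) (p : Fin N → k) :
    sub U (lf p) = lf (U.transpose.mulVec p) := by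
  simp only [lf, map_sum, map_mul, algHom_C, algebraMap_eq, sub_X, lin, Matrix.mulVec, dotProduct,
    Matrix.transpose_apply, Finset.mul_sum, Finset.sum_mul]
  rw [Finset.sum_comm]
  exact Finset.sum_congr rfl fun j _ => Finset.sum_congr rfl fun i _ => by ring

theorem sub_prod_lf (U : Matrix (Fin N) (Fin N) k) (p : Fin d → Fin N → k) :
    sub U (∏ i, lf (p i)) = ∏ i, lf (U.transpose.mulVec (p i)) := by
  simp [map_prod, sub_lf]

theorem map_prod_lf {κ : Type v} [Field κ] (ι : k →+* κ) (p : Fin d → Fin N → k) :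
    map ι (∏ i, lf (p i)) = ∏ i, lf (fun j => ι (p i j)) := by
  simp [map_prod, lf]

theorem prod_lf_eq (q : Fin d → Fin N → k) :
    ∏ i, lf (q i) = ∑ c : Fin d → Fin N, monomial (∑ i, Finsupp.single (c i) 1) (∏ i, q i (c i)) := by
  classical
  simp only [lf]
  rw [Fintype.prod_sum]
  refine Finset.sum_congr rfl fun c _ => ?_
  rw [monomial_sum_index, map_prod, Finset.prod_mul_distrib]
  rfl

theorem exists_choice_of_coeff_ne_zero (q : Fin d → Fin N → k) (e : Fin N →₀ ℕ)
    (h : coeff e (∏ i, lf (q i)) ≠ 0) :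
    ∃ c : Fin d → Fin N, (∀ i, q i (c i) ≠ 0) ∧ e = ∑ i, Finsupp.single (c i) 1 := by
  classical
  rw [prod_lf_eq, coeff_sum] at h
  obtain ⟨c, -, hc⟩ := Finset.exists_ne_zero_of_sum_ne_zero h
  rw [coeff_monomial] at hc
  split_ifs at hc with he
  · exact ⟨c, fun i => Finset.prod_ne_zero_iff.1 hc i (Finset.mem_univ i), he.symm⟩
  · exact absurd rfl hc

theorem weight_sum_single {Γ : Type v} [AddCommGroup Γ] (c : Fin d → Fin N) (r : Fin N → Γ) :
    ∑ j, (∑ i, Finsupp.single (c i) 1 : Fin N →₀ ℕ) j • r j = ∑ i, r (c i) := by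
  classical
  simp only [Finsupp.finsetSum_apply, Finset.sum_smul]
  rw [Finset.sum_comm]
  refine Finset.sum_congr rfl fun i _ => ?_
  rw [Finset.sum_eq_single (c i)] <;> simp +contextual

theorem coeff_lead (q : Fin d → Fin N → k) (μ : Fin d → Fin N)
    (hμ : ∀ i j, j < μ i → q i j = 0) :
    coeff (∑ i, Finsupp.single (μ i) 1) (∏ i, lf (q i)) = ∏ i, q i (μ i) := by
  classical
  rw [prod_lf_eq, coeff_sum, Finset.sum_eq_single μ]
  · simp
  · intro c _ hc
    rw [coeff_monomial]
    split_ifs with he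
    · by_contra hne
      apply hc
      have hle : ∀ i, μ i ≤ c i := fun i => not_lt.1 fun hlt =>
        Finset.prod_ne_zero_iff.1 hne i (Finset.mem_univ i) (hμ i _ hlt)
      have hsum : ∑ i, ((c i : ℕ) : ℤ) = ∑ i, ((μ i : ℕ) : ℤ) := by
        rw [← weight_sum_single c (fun j : Fin N => ((j : ℕ) : ℤ)), he, weight_sum_single]
      funext i
      have h1 := (Finset.sum_eq_sum_iff_of_le (s := Finset.univ)
        (f := fun i => ((μ i : ℕ) : ℤ)) (g := fun i => ((c i : ℕ) : ℤ))
        (fun i _ => by exact_mod_cast hle i)).1 hsum.symm i (Finset.mem_univ i)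
      exact Fin.ext (by exact_mod_cast h1.symm)
    · rfl
  · simp

theorem exists_det_one_adapted (W : Submodule k (Fin N → k)) (hW : W ≠ ⊤) :
    ∃ M : Matrix (Fin N) (Fin N) k, M.det = 1 ∧
      ∀ v ∈ W, ∀ j : Fin N, j.val < N - Module.finrank k W → M.transpose.mulVec v j = 0 := by
  classical
  obtain ⟨W', hW'⟩ := Submodule.exists_isCompl W
  have hdim := Submodule.finrank_add_eq_of_isCompl hW'
  rw [Module.finrank_fin_fun] at hdim
  have hlt : Module.finrank k W < N := by
    have := Submodule.finrank_lt hW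
    rwa [Module.finrank_fin_fun] at this
  let b' := Module.finBasis k W'
  let b := Module.finBasis k W
  let B : Module.Basis (Fin (Module.finrank k W') ⊕ Fin (Module.finrank k W)) k (Fin N → k) :=
    (b'.prod b).map (Submodule.prodEquivOfIsCompl W' W hW'.symm)
  let B' : Module.Basis (Fin N) k (Fin N → k) :=
    B.reindex (finSumFinEquiv.trans (finCongr ((add_comm _ _).trans hdim)))
  let G : Matrix (Fin N) (Fin N) k := LinearMap.toMatrix' B'.equivFun.toLinearMap
  have hG : ∀ v, G.mulVec v = B'.equivFun v := fun v => LinearMap.toMatrix'_mulVec _ v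
  have hzero : ∀ v ∈ W, ∀ j : Fin N, j.val < N - Module.finrank k W → G.mulVec v j = 0 := by
    intro v hv j hj
    rw [hG, Module.Basis.equivFun_apply, Module.Basis.repr_reindex_apply]
    have hs : (finSumFinEquiv.trans (finCongr ((add_comm _ _).trans hdim))).symm j
        = Sum.inl (⟨j.val, by omega⟩ : Fin (Module.finrank k W')) := by
      rw [Equiv.symm_apply_eq]
      exact Fin.ext rfl
    rw [hs]
    show (b'.prod b).repr ((Submodule.prodEquivOfIsCompl W' W hW'.symm).symm v) (Sum.inl _) = 0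
    rw [show v = ((⟨v, hv⟩ : W) : Fin N → k) from rfl, Submodule.prodEquivOfIsCompl_symm_apply_right]
    simp
  have hdet : G.det ≠ 0 := by
    intro h0
    obtain ⟨v, hv, hGv⟩ := Matrix.exists_mulVec_eq_zero_iff.2 h0
    exact hv (B'.equivFun.injective (by rw [← hG, hGv, map_zero]))
  let i₀ : Fin N := ⟨0, by omega⟩
  refine ⟨(Matrix.diagonal (Function.update 1 i₀ G.det⁻¹) * G).transpose, ?_, fun v hv j hj => ?_⟩
  · rw [Matrix.det_transpose, Matrix.det_mul, Matrix.det_diagonal]
    simp [Finset.prod_update_of_mem, hdet]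
  · rw [Matrix.transpose_transpose, ← Matrix.mulVec_mulVec, Matrix.mulVec_diagonal, hzero v hv j hj,
      mul_zero]

theorem finrank_map_le {κ : Type v} [Field κ] (ι : k →+* κ) (p : Fin d → Fin N → k)
    (V : Submodule κ (Fin N → κ)) (hV : ∀ i, (fun j => ι (p i j)) ∈ V) :
    Module.finrank k (Submodule.span k (Set.range p)) ≤ Module.finrank κ V := by
  classical
  obtain ⟨s, hs, hspan, hli⟩ := exists_linearIndependent k (Set.range p)
  haveI : Fintype s := ((Set.finite_range p).subset hs).fintype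
  have hfin : Module.finrank k (Submodule.span k (Set.range p)) = Fintype.card s := by
    rw [← hspan, finrank_span_set_eq_card hli, Set.toFinset_card]
  let T : (s → k) →ₗ[k] (Fin N → k) := Fintype.linearCombination k (fun x : s => (x : Fin N → k))
  obtain ⟨L, hL⟩ := T.exists_leftInverse_of_injective
    (LinearMap.ker_eq_bot.2 hli.fintypeLinearCombination_injective)
  have hGP : LinearMap.toMatrix' L * LinearMap.toMatrix' T = 1 := by
    rw [← LinearMap.toMatrix'_comp, hL, LinearMap.toMatrix'_id]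
  let Tκ : (s → κ) →ₗ[κ] (Fin N → κ) := Matrix.toLin' ((LinearMap.toMatrix' T).map ι)
  have hinj : Function.Injective Tκ := by
    intro x y hxy
    have h := congrArg (Matrix.toLin' ((LinearMap.toMatrix' L).map ι)) hxy
    simp only [Tκ, ← LinearMap.comp_apply, ← Matrix.toLin'_mul, ← Matrix.map_mul, hGP,
      Matrix.map_one _ (map_zero ι) (map_one ι), Matrix.toLin'_one, LinearMap.id_apply] at h
    exact h
  have hle : LinearMap.range Tκ ≤ V := by
    rintro _ ⟨x, rfl⟩
    have hx : Tκ x = ∑ y : s, x y • (fun j => ι ((y : Fin N → k) j)) := by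
      funext j
      simp [Tκ, Matrix.mulVec, dotProduct, T, LinearMap.toMatrix'_apply, Fintype.linearCombination_apply,
        Pi.single_apply, ite_apply, apply_ite ι, mul_comm]
    rw [hx]
    refine Submodule.sum_mem _ fun y _ => V.smul_mem _ ?_
    obtain ⟨i, hi⟩ := hs y.2
    rw [← hi]
    exact hV i
  rw [hfin, ← Module.finrank_fintype_fun_eq_card (R := κ) (η := s), ← LinearMap.finrank_range_of_inj hinj]
  exact Submodule.finrank_mono hle

end Prod

section Weights

variable {Γ : Type v} [AddCommGroup Γ] [LinearOrder Γ] [IsOrderedAddMonoid Γ]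

theorem weight_telescope {n : ℕ} (r : Fin (n + 1) → Γ) (μ : Fin (n + 1)) :
    r μ = r (Fin.last n) +
      ∑ l ∈ Finset.univ.filter (fun l : Fin n => μ ≤ l.castSucc), (r l.castSucc - r l.succ) := by
  induction μ using Fin.reverseInduction with
  | last => simp
  | cast i ih =>
    have hins : Finset.univ.filter (fun l : Fin n => i.castSucc ≤ l.castSucc)
        = insert i (Finset.univ.filter (fun l : Fin n => i.succ ≤ l.castSucc)) := by
      ext l
      simp only [Finset.mem_filter, Finset.mem_univ, true_and, Finset.mem_insert, Fin.le_def,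
        Fin.val_castSucc, Fin.val_succ, Fin.ext_iff]
      omega
    rw [hins, Finset.sum_insert (by simp [Fin.le_def]), ← add_assoc,
      add_right_comm (r (Fin.last n)), ← ih]
    abel

/-- strict tail counts make the total weight of the leading indices positive -/
theorem weight_pos {n d : ℕ} (r : Fin (n + 1) → Γ) (hanti : Antitone r) (hr : ∑ i, r i = 0)
    (hr0 : r ≠ 0) (μ : Fin d → Fin (n + 1))
    (hc : ∀ l : Fin n, d * (l.val + 1) <
      (Finset.univ.filter fun i => μ i ≤ l.castSucc).card * (n + 1)) :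
    0 < ∑ i, r (μ i) := by
  classical
  set δ : Fin n → Γ := fun l => r l.castSucc - r l.succ with hδ
  have hδ0 : ∀ l, 0 ≤ δ l := fun l => sub_nonneg.2 (hanti (Fin.castSucc_le_succ l))
  have hgen : ∀ (m : ℕ) (ν : Fin m → Fin (n + 1)), ∑ i, r (ν i) =
      m • r (Fin.last n) + ∑ l, (Finset.univ.filter fun i => ν i ≤ l.castSucc).card • δ l := by
    intro m ν
    calc ∑ i, r (ν i) = ∑ i, (r (Fin.last n) + ∑ l, if ν i ≤ l.castSucc then δ l else 0) :=
          Finset.sum_congr rfl fun i _ => by rw [weight_telescope r (ν i), Finset.sum_filter]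
      _ = _ := by
        rw [Finset.sum_add_distrib, Finset.sum_comm, Finset.sum_const, Finset.card_univ, Fintype.card_fin]
        refine congrArg _ (Finset.sum_congr rfl fun l _ => ?_)
        rw [← Finset.sum_filter, Finset.sum_const]
  have hall := hgen (n + 1) id
  simp only [id] at hall
  rw [hr] at hall
  have hcard : ∀ l : Fin n, (Finset.univ.filter fun i : Fin (n + 1) => i ≤ l.castSucc).card = l.val + 1 := by
    intro l
    rw [show (Finset.univ.filter fun i : Fin (n + 1) => i ≤ l.castSucc) = Finset.Iic l.castSucc by ext; simp,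
      Fin.card_Iic, Fin.val_castSucc]
  simp only [hcard] at hall
  obtain ⟨l₀, hl₀⟩ : ∃ l, 0 < δ l := by
    by_contra hno
    push Not at hno
    have h0 : ∀ l, δ l = 0 := fun l => le_antisymm (hno l) (hδ0 l)
    simp only [h0, smul_zero, Finset.sum_const_zero, add_zero] at hall
    have hlast : r (Fin.last n) = 0 := (nsmul_eq_zero_iff_right (Nat.succ_ne_zero n)).1 hall.symm
    refine hr0 (funext fun i => ?_)
    rw [weight_telescope r i, hlast, Finset.sum_eq_zero (fun l _ => h0 l), add_zero]
    rfl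
  have key : (n + 1) • ∑ i, r (μ i) = ∑ l : Fin n,
      ((Finset.univ.filter fun i => μ i ≤ l.castSucc).card * (n + 1) - d * (l.val + 1)) • δ l := by
    have h1 : ∀ l : Fin n, ((Finset.univ.filter fun i => μ i ≤ l.castSucc).card * (n + 1) - d * (l.val + 1)) • δ l
        = (n + 1) • ((Finset.univ.filter fun i => μ i ≤ l.castSucc).card • δ l) - d • ((l.val + 1) • δ l) := by
      intro l
      rw [sub_nsmul _ (hc l).le, ← sub_eq_add_neg, ← mul_smul, ← mul_smul, mul_comm (n + 1)]
    rw [Finset.sum_congr rfl fun l _ => h1 l, Finset.sum_sub_distrib, ← Finset.smul_sum, ← Finset.smul_sum,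
      eq_neg_of_add_eq_zero_right hall.symm, hgen d μ, smul_add, smul_neg, sub_neg_eq_add,
      ← mul_smul, ← mul_smul, mul_comm d, add_comm]
  have hpos : 0 < (n + 1) • ∑ i, r (μ i) := by
    rw [key]
    exact Finset.sum_pos' (fun l _ => nsmul_nonneg (hδ0 l) _)
      ⟨l₀, Finset.mem_univ _, nsmul_pos hl₀ (Nat.sub_pos_of_lt (hc l₀)).ne'⟩
  by_contra hle
  exact absurd (nsmul_nonpos (not_lt.1 hle) (n + 1)) (not_le.2 hpos)

end Weights

variable {k : Type u} [Field k] {n d : ℕ}

theorem noDestab_pointSet [IsAlgClosed k] (p : Fin d → Fin (n + 1) → k) (hp : ∀ i, p i ≠ 0)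
    (a : CoordGrp.FormIdx (n + 1) d → k) (ha : CoordGrp.formPoly a = ∏ i, lf (p i))
    (hlt : ∀ W : Submodule k (Fin (n + 1) → k), W ≠ ⊥ → W ≠ ⊤ →
      Nat.card {i : Fin d // p i ∈ W} * (n + 1) < d * Module.finrank k W) :
    NoDestab a := by
  classical
  refine noDestab_of_antitone a fun κ _ _ ι U hU Γ _ _ _ r hanti hr hr0 => ?_
  have hUt : U.transpose.det ≠ 0 := by rw [Matrix.det_transpose]; exact hU.ne_zero
  set pκ : Fin d → Fin (n + 1) → κ := fun i j => ι (p i j) with hpκ
  set q : Fin d → Fin (n + 1) → κ := fun i => U.transpose.mulVec (pκ i) with hq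
  have hq0 : ∀ i, (Finset.univ.filter fun j => q i j ≠ 0).Nonempty := by
    intro i
    by_contra hne
    rw [Finset.not_nonempty_iff_eq_empty, Finset.filter_eq_empty_iff] at hne
    refine hp i (funext fun j => ?_)
    have h0 : pκ i = 0 := Matrix.eq_zero_of_mulVec_eq_zero hUt
      (funext fun j => not_not.1 (hne (Finset.mem_univ j)))
    exact (map_eq_zero ι).1 (congrFun h0 j)
  let μ : Fin d → Fin (n + 1) := fun i => (Finset.univ.filter fun j => q i j ≠ 0).min' (hq0 i)
  have hμne : ∀ i, q i (μ i) ≠ 0 := fun i => (Finset.mem_filter.1 (Finset.min'_mem _ (hq0 i))).2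
  have hμlt : ∀ i j, j < μ i → q i j = 0 := fun i j hj => by
    by_contra hne
    exact absurd (Finset.min'_le _ j (Finset.mem_filter.2 ⟨Finset.mem_univ j, hne⟩)) (not_le.2 hj)
  have hG : sub U (map ι (CoordGrp.formPoly a)) = ∏ i, lf (q i) := by
    rw [ha, map_prod_lf, sub_prod_lf]
  refine ⟨∑ i, Finsupp.single (μ i) 1, ?_, ?_⟩
  · rw [hG, coeff_lead q μ hμlt]
    exact Finset.prod_ne_zero_iff.2 fun i _ => hμne i
  rw [weight_sum_single]
  have hd : 0 < d ∨ n = 0 := by
    by_contra h
    push Not at h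
    have hd0 : d = 0 := by omega
    subst hd0
    have hW : Submodule.span k {(Pi.single (0 : Fin (n + 1)) (1 : k) : Fin (n + 1) → k)} ≠ ⊤ := fun htop => by
      have h1 := congrArg (fun W : Submodule k (Fin (n + 1) → k) => Module.finrank k W) htop
      simp only [finrank_top, Module.finrank_fin_fun] at h1
      rw [finrank_span_singleton (show (Pi.single (0 : Fin (n + 1)) (1 : k) : Fin (n + 1) → k) ≠ 0 by simp)] at h1
      omega
    have := hlt _ (by simp) hW
    simp at this
  refine weight_pos r hanti hr hr0 μ fun l => ?_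
  set S := Finset.univ.filter fun i => ¬ μ i ≤ l.castSucc with hS
  have hsum : (Finset.univ.filter fun i => μ i ≤ l.castSucc).card + S.card = d := by
    rw [hS, Finset.card_filter_add_card_filter_not]
    simp
  suffices h : S.card * (n + 1) < d * (n - l.val) by
    obtain ⟨e, he⟩ : ∃ e, n = l.val + 1 + e := ⟨n - (l.val + 1), by have := l.isLt; omega⟩
    rw [show n - l.val = 1 + e by omega] at h
    generalize (Finset.univ.filter fun i => μ i ≤ l.castSucc).card = A at hsum ⊢
    have h1 : d * (n + 1) = A * (n + 1) + S.card * (n + 1) := by rw [← add_mul, hsum]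
    have h2 : d * (n + 1) = d * (l.val + 1) + d * (1 + e) := by rw [← mul_add]; congr 1; omega
    linarith
  rcases S.eq_empty_or_nonempty with hSe | ⟨i₀, hi₀⟩
  · rw [hSe, Finset.card_empty, zero_mul]
    rcases hd with hd | hd
    · exact Nat.mul_pos hd (by omega)
    · have := l.isLt; omega
  let pS : Fin S.card → Fin (n + 1) → k := fun x => p (S.equivFin.symm x).1
  have hl1 : l.val + 1 ≤ n + 1 := by omega
  let V : Submodule κ (Fin (n + 1) → κ) :=
    LinearMap.ker ((LinearMap.funLeft κ κ (Fin.castLE hl1)).comp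
      (Matrix.toLin' U.transpose))
  have hVdim : Module.finrank κ V ≤ n - l.val := by
    have hsur : Function.Surjective ((LinearMap.funLeft κ κ (Fin.castLE hl1)).comp
        (Matrix.toLin' U.transpose)) := by
      rw [LinearMap.coe_comp]
      refine Function.Surjective.comp (LinearMap.funLeft_surjective_of_injective κ κ _
        (Fin.castLE_injective hl1)) ?_
      exact LinearMap.surjective_of_injective (f := Matrix.toLin' U.transpose)
        (fun x y hxy => sub_eq_zero.1 (Matrix.eq_zero_of_mulVec_eq_zero hUt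
          (by rw [← Matrix.toLin'_apply, map_sub, hxy, sub_self])))
    have h := LinearMap.finrank_range_add_finrank_ker
      ((LinearMap.funLeft κ κ (Fin.castLE hl1)).comp (Matrix.toLin' U.transpose))
    rw [LinearMap.range_eq_top.2 hsur, finrank_top, Module.finrank_fin_fun, Module.finrank_fin_fun] at h
    show Module.finrank κ (LinearMap.ker _) ≤ _
    omega
  have hmem : ∀ x, (fun j => ι (pS x j)) ∈ V := by
    intro x
    rw [LinearMap.mem_ker]
    funext c
    refine hμlt _ _ ?_
    have hlt := not_le.1 (Finset.mem_filter.1 (S.equivFin.symm x).2).2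
    rw [Fin.lt_def, Fin.val_castSucc] at hlt
    rw [Fin.lt_def, Fin.val_castLE]
    omega
  have hdim := (finrank_map_le ι pS V hmem).trans hVdim
  set W := Submodule.span k (Set.range pS) with hW
  have hWbot : W ≠ ⊥ := fun h0 => hp i₀ (by
    have : p i₀ ∈ W := Submodule.subset_span ⟨S.equivFin ⟨i₀, hi₀⟩, by simp [pS]⟩
    rw [h0, Submodule.mem_bot] at this
    exact this)
  have hWtop : W ≠ ⊤ := fun h0 => by
    rw [h0, finrank_top, Module.finrank_fin_fun] at hdim
    omega
  refine lt_of_le_of_lt (Nat.mul_le_mul_right _ ?_) ((hlt W hWbot hWtop).trans_le (Nat.mul_le_mul_left d hdim))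
  rw [Nat.card_eq_fintype_card, Fintype.card_subtype]
  refine Finset.card_le_card fun i hi => Finset.mem_filter.2 ⟨Finset.mem_univ i, ?_⟩
  exact Submodule.subset_span ⟨S.equivFin ⟨i, hi⟩, by simp [pS]⟩

theorem weights_pointSet (p : Fin d → Fin (n + 1) → k) (a : CoordGrp.FormIdx (n + 1) d → k)
    (ha : CoordGrp.formPoly a = ∏ i, lf (p i)) (W : Submodule k (Fin (n + 1) → k)) (hW : W ≠ ⊥) (hW' : W ≠ ⊤) :
    ∃ (M : Matrix (Fin (n + 1)) (Fin (n + 1)) k) (r : Fin (n + 1) → ℤ), M.det = 1 ∧ ∑ i, r i = 0 ∧ r ≠ 0 ∧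
      ∀ e : Fin (n + 1) →₀ ℕ, coeff e (sub M (CoordGrp.formPoly a)) ≠ 0 →
        ∑ i, (e i : ℤ) * r i ≤ (d : ℤ) * Module.finrank k W - (n + 1) * (Nat.card {i : Fin d // p i ∈ W}) := by
  classical
  obtain ⟨M, hM, hMW⟩ := exists_det_one_adapted W hW'
  set w := Module.finrank k W with hw
  have hwlt : w < n + 1 := by
    have := Submodule.finrank_lt hW'
    rwa [Module.finrank_fin_fun] at this
  have hwpos : 0 < w := Nat.pos_of_ne_zero fun h0 => hW (Submodule.finrank_eq_zero.1 h0)
  let r : Fin (n + 1) → ℤ := fun j => if j.val < n + 1 - w then (w : ℤ) else (w : ℤ) - (n + 1)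
  have hr : ∑ i, r i = 0 := by
    rw [Finset.sum_ite, Finset.sum_const, Finset.sum_const, Finset.filter_not,
      Finset.card_sdiff_of_subset (Finset.filter_subset _ _), Fin.card_filter_val_lt, Finset.card_univ,
      Fintype.card_fin, min_eq_right (by omega), nsmul_eq_mul, nsmul_eq_mul,
      show n + 1 - (n + 1 - w) = w by omega, Nat.cast_sub (by omega)]
    push_cast
    ring
  refine ⟨M, r, hM, hr, fun h0 => ?_, fun e he => ?_⟩
  · have h1 := congrFun h0 0
    simp only [r, Fin.val_zero, Pi.zero_apply] at h1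
    split_ifs at h1 <;> omega
  rw [ha, sub_prod_lf] at he
  obtain ⟨c, hc, rfl⟩ := exists_choice_of_coeff_ne_zero _ _ he
  have hsum := weight_sum_single c r
  simp only [nsmul_eq_mul] at hsum
  rw [hsum, Nat.card_eq_fintype_card, Fintype.card_subtype]
  calc ∑ i, r (c i) ≤ ∑ i, ((w : ℤ) - if p i ∈ W then ((n : ℤ) + 1) else 0) := by
        refine Finset.sum_le_sum fun i _ => ?_
        simp only [r]
        by_cases hi : p i ∈ W
        · rw [if_pos hi, if_neg fun hlt => hc i (hMW _ hi _ hlt)]
        · rw [if_neg hi, sub_zero]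
          split_ifs <;> omega
    _ = _ := by
        rw [Finset.sum_sub_distrib, Finset.sum_const, Finset.card_univ, Fintype.card_fin, ← Finset.sum_filter,
          Finset.sum_const, nsmul_eq_mul, nsmul_eq_mul]
        ring

theorem not_stable_pointSet [IsAlgClosed k] (hd : (d.factorial : k) ≠ 0) (p : Fin d → Fin (n + 1) → k)
    (a : CoordGrp.FormIdx (n + 1) d → k) (ha : CoordGrp.formPoly a = ∏ i, lf (p i))
    (W : Submodule k (Fin (n + 1) → k)) (hW : W ≠ ⊥) (hW' : W ≠ ⊤)
    (h : d * Module.finrank k W ≤ Nat.card {i : Fin d // p i ∈ W} * (n + 1)) :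
    ¬ @GLin.IsStableVec k _ (CoordGrp.SLn (n + 1) k) _ _ (CoordGrp.FormIdx (n + 1) d) (GLin.comodAlong (toSL (n + 1) k) (CoordGrp.formsCoact k (n + 1) d))
      (GLin.isCoactAlg_comodAlong (toSL (n + 1) k) (CoordGrp.formsCoact k (n + 1) d)
        (CoordGrp.formsCoact_isCoactAlg k (n + 1) d))
      a := by
  obtain ⟨M, r, hM, hr, hr0, hle⟩ := weights_pointSet p a ha W hW hW'
  refine not_isStableVec_of_weights_of hd a M hM r hr hr0 fun e he => (hle e he).trans ?_
  have h' : ((d * Module.finrank k W : ℕ) : ℤ) ≤ ((Nat.card {i : Fin d // p i ∈ W} * (n + 1) : ℕ) : ℤ) :=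
    by exact_mod_cast h
  push_cast at h'
  linarith

theorem nullform_pointSet (hd : (d.factorial : k) ≠ 0) (p : Fin d → Fin (n + 1) → k)
    (a : CoordGrp.FormIdx (n + 1) d → k) (ha : CoordGrp.formPoly a = ∏ i, lf (p i))
    (W : Submodule k (Fin (n + 1) → k)) (hW : W ≠ ⊥) (hW' : W ≠ ⊤)
    (h : d * Module.finrank k W < Nat.card {i : Fin d // p i ∈ W} * (n + 1)) :
    @GLin.IsNullform k _ (CoordGrp.SLn (n + 1) k) _ _ (CoordGrp.FormIdx (n + 1) d) (GLin.comodAlong (toSL (n + 1) k) (CoordGrp.formsCoact k (n + 1) d))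
      (GLin.isCoactAlg_comodAlong (toSL (n + 1) k) (CoordGrp.formsCoact k (n + 1) d)
        (CoordGrp.formsCoact_isCoactAlg k (n + 1) d))
      a := by
  obtain ⟨M, r, hM, hr, hr0, hle⟩ := weights_pointSet p a ha W hW hW'
  refine isNullform_of_weights_of hd a M hM r hr fun e he => (hle e he).trans_lt ?_
  have h' : ((d * Module.finrank k W : ℕ) : ℤ) < ((Nat.card {i : Fin d // p i ∈ W} * (n + 1) : ℕ) : ℤ) :=
    by exact_mod_cast h
  push_cast at h'
  linarith

theorem not_stable_fewPoints [IsAlgClosed k] (hn : 1 ≤ n) (hdn : d ≤ n) (hd : (d.factorial : k) ≠ 0)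
    (p : Fin d → Fin (n + 1) → k) (hp : ∀ i, p i ≠ 0)
    (a : CoordGrp.FormIdx (n + 1) d → k) (ha : CoordGrp.formPoly a = ∏ i, lf (p i)) :
    ¬ @GLin.IsStableVec k _ (CoordGrp.SLn (n + 1) k) _ _ (CoordGrp.FormIdx (n + 1) d) (GLin.comodAlong (toSL (n + 1) k) (CoordGrp.formsCoact k (n + 1) d))
      (GLin.isCoactAlg_comodAlong (toSL (n + 1) k) (CoordGrp.formsCoact k (n + 1) d)
        (CoordGrp.formsCoact_isCoactAlg k (n + 1) d))
      a := by
  classical
  rcases Nat.eq_zero_or_pos d with rfl | hd0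
  · refine not_isStableVec_of_weights_of hd a 1 Matrix.det_one
      (fun j => if j = 0 then (n : ℤ) else -1) ?_ ?_ fun e he => ?_
    · rw [Finset.sum_ite, Finset.sum_const, Finset.sum_const, Finset.filter_eq', if_pos (Finset.mem_univ _),
        Finset.card_singleton, Finset.filter_ne', Finset.card_erase_of_mem (Finset.mem_univ _)]
      simp
    · intro h0
      have h1 := congrFun h0 0
      simp at h1
      omega
    · have := coeff_eq_zero_of_formPoly a 1 he
      rw [Finsupp.degree_eq_zero_iff] at this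
      simp [this]
  set W := Submodule.span k (Set.range p) with hW
  have hWdim : Module.finrank k W ≤ d := (finrank_range_le_card p).trans_eq (Fintype.card_fin d)
  refine not_stable_pointSet hd p a ha W (fun h0 => hp ⟨0, hd0⟩ ?_) (fun h0 => ?_) ?_
  · have : p ⟨0, hd0⟩ ∈ W := Submodule.subset_span ⟨_, rfl⟩
    rwa [h0, Submodule.mem_bot] at this
  · rw [h0, finrank_top, Module.finrank_fin_fun] at hWdim
    omega
  · have hall : ∀ i, p i ∈ W := fun i => Submodule.subset_span ⟨i, rfl⟩
    rw [Nat.card_congr (Equiv.subtypeUnivEquiv hall),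
      Nat.card_eq_fintype_card, Fintype.card_fin]
    exact Nat.mul_le_mul_left d (by omega)

end Groth.Agent.GIT36
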