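import Groth.Agent.GIT36.Criterion
import Groth.Agent.GIT36.Destab

/-!
# Stability of plane quartics
-/

set_option autoImplicit false

noncomputable section

open MvPolynomial

namespace Groth.Agent.GIT36

universe u

/-- the exponent of `x₀^(4-i-j) x₁^i x₂^j` -/
def ex4 (ij : ℕ × ℕ) : Fin 3 →₀ ℕ :=
  Finsupp.single 0 (4 - ij.1 - ij.2) + Finsupp.single 1 ij.1 + Finsupp.single 2 ij.2

theorem ex4_apply (i j : ℕ) :
    ex4 (i, j) 0 = 4 - i - j ∧ ex4 (i, j) 1 = i ∧ ex4 (i, j) 2 = j := by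
  simp [ex4, Finsupp.single_apply]

theorem eq_ex4 {e : Fin 3 →₀ ℕ} (he : e.degree = 4) : e = ex4 (e 1, e 2) := by
  rw [Finsupp.degree_eq_sum, Fin.sum_univ_three] at he
  obtain ⟨h0, h1, h2⟩ := ex4_apply (e 1) (e 2)
  ext i
  fin_cases i
  · exact (show e 0 = 4 - e 1 - e 2 from by omega).trans h0.symm
  · exact h1.symm
  · exact h2.symm

variable {k : Type u} [Field k] [IsAlgClosed k] [CharZero k]

theorem quartic_noDestab (a : CoordGrp.FormIdx 3 4 → k)
    (h : ¬ ∃ M : Matrix (Fin 3) (Fin 3) k, M.det = 1 ∧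
      (∀ ij : ℕ × ℕ, ij ∈ ({(0, 0), (1, 0), (0, 1), (2, 0), (1, 1)} : Finset (ℕ × ℕ)) →
        coeff (ex4 ij) (sub M (CoordGrp.formPoly a)) = 0) ∧
      (coeff (ex4 (0, 2)) (sub M (CoordGrp.formPoly a)) = 0 ∨
        coeff (ex4 (3, 0)) (sub M (CoordGrp.formPoly a)) = 0)) :
    NoDestab a := by
  classical
  refine noDestab_of_antitone a fun κ _ _ ι U hU Γ _ _ _ r hanti hr hr0 => ?_
  by_contra hcon
  push Not at hcon
  set G := sub U (map ι (CoordGrp.formPoly a))
  have h01 : r 1 ≤ r 0 := hanti (by decide)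
  have h12 : r 2 ≤ r 1 := hanti (by decide)
  rw [Fin.sum_univ_three] at hr
  have hzero : ∀ i j : ℕ, 0 < (4 - i - j) • r 0 + i • r 1 + j • r 2 → coeff (ex4 (i, j)) G = 0 := by
    intro i j hpos
    by_contra hne
    have hle := hcon _ hne
    obtain ⟨e0, e1, e2⟩ := ex4_apply i j
    rw [Fin.sum_univ_three, e0, e1, e2] at hle
    exact absurd hpos (not_lt.2 hle)
  have hr2' : r 0 + r 1 = -r 2 := eq_neg_of_add_eq_zero_left hr
  have hr0pos : 0 < r 0 := by
    by_contra hle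
    push Not at hle
    refine hr0 (funext fun i => ?_)
    have h1 : r 1 ≤ 0 := h01.trans hle
    have h2 : r 2 ≤ 0 := h12.trans h1
    have hs := (Finset.sum_eq_zero_iff_of_nonpos (s := Finset.univ) (f := r)
      (fun i _ => by fin_cases i <;> assumption)).1 (by rw [Fin.sum_univ_three, hr])
    exact hs i (Finset.mem_univ i)
  have hr2neg : r 2 < 0 := by
    by_contra hle
    push Not at hle
    have : r 0 + r 1 + r 2 > 0 :=
      add_pos_of_pos_of_nonneg (add_pos_of_pos_of_nonneg hr0pos (hle.trans h12)) hle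
    exact this.ne' hr
  have hfive : ∀ ij ∈ ({(0, 0), (1, 0), (0, 1), (2, 0), (1, 1)} : Finset (ℕ × ℕ)), coeff (ex4 ij) G = 0 := by
    intro ij hij
    simp only [Finset.mem_insert, Finset.mem_singleton] at hij
    rcases hij with rfl | rfl | rfl | rfl | rfl <;> apply hzero <;>
      simp only [Nat.sub_zero, Nat.reduceSub, zero_smul, one_smul, add_zero]
    · exact nsmul_pos hr0pos (by norm_num)
    · rw [show 3 • r 0 + r 1 = 2 • r 0 + (r 0 + r 1) from by abel, hr2']
      exact add_pos (nsmul_pos hr0pos (by norm_num)) (neg_pos.2 hr2neg)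
    · rw [show 3 • r 0 + r 2 = r 0 + (r 0 + (r 0 + r 1 + r 2) - r 1) from by abel, hr, add_zero]
      exact add_pos_of_pos_of_nonneg hr0pos (sub_nonneg.2 h01)
    · rw [← nsmul_add, hr2']
      exact nsmul_pos (neg_pos.2 hr2neg) (by norm_num)
    · rw [show 2 • r 0 + r 1 + r 2 = r 0 + (r 0 + r 1 + r 2) from by abel, hr, add_zero]
      exact hr0pos
  obtain ⟨x, hx, hxG⟩ : ∃ x : ℕ × ℕ, (x = (0, 2) ∨ x = (3, 0)) ∧ coeff (ex4 x) G = 0 := by
    by_cases h1 : r 1 < 0
    · refine ⟨(0, 2), Or.inl rfl, hzero 0 2 ?_⟩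
      simp only [Nat.sub_zero, Nat.reduceSub, zero_smul, add_zero]
      rw [← nsmul_add, show r 0 + r 2 = (r 0 + r 1 + r 2) + -r 1 from by abel, hr, zero_add]
      exact nsmul_pos (neg_pos.2 h1) (by norm_num)
    · refine ⟨(3, 0), Or.inr rfl, hzero 3 0 ?_⟩
      simp only [Nat.sub_zero, Nat.reduceSub, zero_smul, one_smul, add_zero]
      exact add_pos_of_pos_of_nonneg hr0pos (nsmul_nonneg (not_lt.1 h1) 3)
  obtain ⟨M, hM, hMc⟩ := exists_descend (by norm_num) a
    (insert (ex4 x) (ex4 '' (({(0, 0), (1, 0), (0, 1), (2, 0), (1, 1)} : Finset (ℕ × ℕ)) : Set (ℕ × ℕ))))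
    ι U hU (by
      rintro e (rfl | ⟨ij, hij, rfl⟩)
      · exact hxG
      · exact hfive ij hij)
  refine h ⟨M, hM, fun ij hij => hMc _ (Set.mem_insert_of_mem _ ⟨ij, hij, rfl⟩), ?_⟩
  rcases hx with rfl | rfl
  · exact Or.inl (hMc _ (Set.mem_insert _ _))
  · exact Or.inr (hMc _ (Set.mem_insert _ _))

theorem quartic_not_stable (a : CoordGrp.FormIdx 3 4 → k) (M : Matrix (Fin 3) (Fin 3) k) (hM : M.det = 1)
    (h5 : ∀ ij : ℕ × ℕ, ij ∈ ({(0, 0), (1, 0), (0, 1), (2, 0), (1, 1)} : Finset (ℕ × ℕ)) →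
      coeff (ex4 ij) (sub M (CoordGrp.formPoly a)) = 0)
    (h : coeff (ex4 (0, 2)) (sub M (CoordGrp.formPoly a)) = 0 ∨
      coeff (ex4 (3, 0)) (sub M (CoordGrp.formPoly a)) = 0) :
    ¬ @GLin.IsStableVec k _ (CoordGrp.SLn 3 k) _ _ (CoordGrp.FormIdx 3 4) (GLin.comodAlong (toSL 3 k) (CoordGrp.formsCoact k 3 4))
      (GLin.isCoactAlg_comodAlong (toSL 3 k) (CoordGrp.formsCoact k 3 4)
        (CoordGrp.formsCoact_isCoactAlg k 3 4))
      a := by
  rcases h with h | h
  · refine not_isStableVec_of_weights a M hM ![2, -1, -1] (by simp [Fin.sum_univ_three])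
      (fun h0 => by simpa using congrFun h0 0) fun e he => ?_
    have hdeg := coeff_eq_zero_of_formPoly a M he
    rw [eq_ex4 hdeg] at he
    rw [Finsupp.degree_eq_sum, Fin.sum_univ_three] at hdeg
    by_contra hpos
    simp [Fin.sum_univ_three] at hpos
    have hcases : (e 1, e 2) ∈ ({(0, 0), (1, 0), (0, 1), (2, 0), (1, 1)} : Finset (ℕ × ℕ)) ∨
        (e 1, e 2) = (0, 2) := by
      simp only [Finset.mem_insert, Finset.mem_singleton, Prod.mk.injEq]
      omega
    rcases hcases with hc | hc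
    · exact he (h5 _ hc)
    · exact he (hc ▸ h)
  · refine not_isStableVec_of_weights a M hM ![1, 0, -1] (by simp [Fin.sum_univ_three])
      (fun h0 => by simpa using congrFun h0 0) fun e he => ?_
    have hdeg := coeff_eq_zero_of_formPoly a M he
    rw [eq_ex4 hdeg] at he
    rw [Finsupp.degree_eq_sum, Fin.sum_univ_three] at hdeg
    by_contra hpos
    simp [Fin.sum_univ_three] at hpos
    have hcases : (e 1, e 2) ∈ ({(0, 0), (1, 0), (0, 1), (2, 0), (1, 1)} : Finset (ℕ × ℕ)) ∨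
        (e 1, e 2) = (3, 0) := by
      simp only [Finset.mem_insert, Finset.mem_singleton, Prod.mk.injEq]
      omega
    rcases hcases with hc | hc
    · exact he (h5 _ hc)
    · exact he (hc ▸ h)

end Groth.Agent.GIT36
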