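import Mathlib
import Groth.Prelude.Def_GLin6

/-!
# Linear substitution on forms, and the form of a moved point
-/

set_option autoImplicit false

noncomputable section

open MvPolynomial TensorProduct

namespace Groth.Agent.GIT36

universe u v w

theorem prodX {N : ℕ} {S : Type v} [CommSemiring S] (e : Fin N →₀ ℕ) :
    ∏ i, (X i : MvPolynomial (Fin N) S) ^ e i = monomial e 1 := by
  rw [monomial_eq, map_one, one_mul, Finsupp.prod_fintype _ _ (fun i => pow_zero _)]

section Sub

variable {N : ℕ} {S : Type v} [CommRing S]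

/-- the linear forms `(g x)_i` -/
def lin (g : Matrix (Fin N) (Fin N) S) (i : Fin N) : MvPolynomial (Fin N) S :=
  ∑ j, C (g i j) * X j

/-- `F ↦ F(g x)` -/
def sub (g : Matrix (Fin N) (Fin N) S) : MvPolynomial (Fin N) S →ₐ[S] MvPolynomial (Fin N) S :=
  aeval (lin g)

theorem sub_X (g : Matrix (Fin N) (Fin N) S) (i : Fin N) : sub g (X i) = lin g i := aeval_X _ i

theorem sub_mul (g h : Matrix (Fin N) (Fin N) S) (F : MvPolynomial (Fin N) S) :
    sub g (sub h F) = sub (h * g) F := by
  have : (sub g).comp (sub h) = sub (h * g) := by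
    apply algHom_ext
    intro i
    simp only [AlgHom.comp_apply, sub_X, lin, map_sum, map_mul, algHom_C, Finset.mul_sum,
      Matrix.mul_apply, Finset.sum_mul, ← mul_assoc, algebraMap_eq]
    rw [Finset.sum_comm]
  exact DFunLike.congr_fun this F

theorem sub_one (F : MvPolynomial (Fin N) S) : sub (1 : Matrix (Fin N) (Fin N) S) F = F := by
  have : sub (1 : Matrix (Fin N) (Fin N) S) = AlgHom.id S _ := by
    apply algHom_ext
    intro i
    rw [sub_X, AlgHom.id_apply, lin, Finset.sum_eq_single i]
    · simp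
    · intro j _ hj
      simp [Matrix.one_apply_ne' hj]
    · simp
  rw [this, AlgHom.id_apply]

theorem map_lin {T : Type w} [CommRing T] (f : S →+* T) (g : Matrix (Fin N) (Fin N) S) (i : Fin N) :
    map f (lin g i) = lin (g.map f) i := by
  simp [lin]

theorem map_sub' {T : Type w} [CommRing T] (f : S →+* T) (g : Matrix (Fin N) (Fin N) S)
    (F : MvPolynomial (Fin N) S) : map f (sub g F) = sub (g.map f) (map f F) := by
  have : (map f).comp (sub g).toRingHom = (sub (g.map f)).toRingHom.comp (map f) := by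
    apply ringHom_ext
    · intro r; simp
    · intro i
      show map f (sub g (X i)) = sub (g.map f) (map f (X i))
      rw [map_X, sub_X, sub_X, map_lin]
  exact DFunLike.congr_fun this F

theorem isHomogeneous_lin (g : Matrix (Fin N) (Fin N) S) (i : Fin N) : (lin g i).IsHomogeneous 1 :=
  IsHomogeneous.sum _ _ _ fun j _ => by
    simpa using (isHomogeneous_C (Fin N) (g i j)).mul (isHomogeneous_X S j)

theorem isHomogeneous_sub (g : Matrix (Fin N) (Fin N) S) {F : MvPolynomial (Fin N) S} {d : ℕ}
    (hF : F.IsHomogeneous d) : (sub g F).IsHomogeneous d := by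
  have h := hF.aeval (lin g) (n := 1) (isHomogeneous_lin g)
  simpa [sub] using h

theorem lin_diagonal (d : Fin N → S) (i : Fin N) : lin (Matrix.diagonal d) i = C (d i) * X i := by
  rw [lin, Finset.sum_eq_single i]
  · simp
  · intro j _ hj
    simp [Matrix.diagonal_apply_ne' _ hj]
  · simp

theorem coeff_sub_diagonal (d : Fin N → S) (F : MvPolynomial (Fin N) S) (e : Fin N →₀ ℕ) :
    coeff e (sub (Matrix.diagonal d) F) = coeff e F * ∏ i, d i ^ e i := by
  classical
  induction F using MvPolynomial.induction_on' with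
  | monomial s a =>
    have h : sub (Matrix.diagonal d) (monomial s a) = monomial s (a * ∏ i, d i ^ s i) := by
      rw [sub, aeval_monomial, algebraMap_eq, Finsupp.prod_fintype _ _ (fun i => pow_zero _)]
      simp only [lin_diagonal, mul_pow, Finset.prod_mul_distrib, ← map_pow, ← map_prod]
      rw [prodX, ← mul_assoc, ← map_mul, C_mul_monomial, mul_one]
    rw [h, coeff_monomial, coeff_monomial]
    split_ifs with he
    · rw [he]
    · rw [zero_mul]
  | add p q hp hq => simp only [map_add, coeff_add, hp, hq, add_mul]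

/-- permuting the columns of the substitution renames the variables -/
theorem sub_submatrix (g : Matrix (Fin N) (Fin N) S) (σ : Equiv.Perm (Fin N))
    (F : MvPolynomial (Fin N) S) : sub (g.submatrix id σ) F = rename σ.symm (sub g F) := by
  have : sub (g.submatrix id σ) = (rename σ.symm).comp (sub g) := by
    apply algHom_ext
    intro i
    rw [AlgHom.comp_apply, sub_X, sub_X, lin, lin, map_sum]
    conv_rhs => rw [← Equiv.sum_comp σ]
    simp
  exact DFunLike.congr_fun this F

end Sub

section Multinomial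

variable {N : ℕ} {S : Type v} [CommRing S]

theorem sum_pow_formIdx (v : Fin N → S) (m : ℕ) :
    (∑ i, v i) ^ m = ∑ p : CoordGrp.FormIdx N m, (p.1.multinomial : S) * ∏ i, v i ^ p.1 i := by
  classical
  rw [Finset.sum_pow_eq_sum_piAntidiag]
  refine Finset.sum_bij' (fun q hq => (⟨Finsupp.equivFunOnFinite.symm q, ?_⟩ : CoordGrp.FormIdx N m))
    (fun p _ => ⇑p.1) ?_ ?_ ?_ ?_ ?_
  · rw [Finset.mem_piAntidiag] at hq
    rw [Finsupp.degree_eq_sum]
    exact hq.1
  · intros; exact Finset.mem_univ _
  · intro p _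
    rw [Finset.mem_piAntidiag]
    exact ⟨by rw [← Finsupp.degree_eq_sum]; exact p.2, fun i _ => Finset.mem_univ i⟩
  · intros; rfl
  · intro p _
    exact Subtype.ext (Finsupp.ext fun i => rfl)
  · intro q _
    congr 2
    exact (Finsupp.multinomial_eq_of_support_subset (f := Finsupp.equivFunOnFinite.symm q)
      (Finset.subset_univ _)).symm

theorem coeff_sum_pow (z : Fin N → S) (m : ℕ) (l : CoordGrp.FormIdx N m) :
    coeff l.1 ((∑ j, C (z j) * X j) ^ m) = (l.1.multinomial : S) * ∏ j, z j ^ l.1 j := by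
  classical
  rw [sum_pow_formIdx, coeff_sum, Finset.sum_eq_single l]
  · simp only [mul_pow, Finset.prod_mul_distrib, ← map_pow, ← map_prod]
    rw [prodX, ← map_natCast (C : S →+* MvPolynomial (Fin N) S),
      ← mul_assoc, ← map_mul, coeff_C_mul, coeff_monomial]
    simp
  · intro p _ hp
    simp only [mul_pow, Finset.prod_mul_distrib, ← map_pow, ← map_prod]
    rw [prodX, ← map_natCast (C : S →+* MvPolynomial (Fin N) S),
      ← mul_assoc, ← map_mul, coeff_C_mul, coeff_monomial]
    rw [if_neg, mul_zero]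
    intro h
    refine hp (Subtype.ext ?_)
    exact h
  · simp

/-- **the form of a moved point**: `Σ_p (m;p) (a·g)_p y^p = F_a(g y)` -/
theorem formPoly_moved (m : ℕ) (g : Matrix (Fin N) (Fin N) S) (v : CoordGrp.FormIdx N m → S) :
    CoordGrp.formPoly (fun p : CoordGrp.FormIdx N m =>
        ∑ l : CoordGrp.FormIdx N m, v l * coeff l.1 (∏ i, lin g.transpose i ^ p.1 i))
      = sub g (CoordGrp.formPoly v) := by
  classical
  set ev : MvPolynomial (Fin N) S →+* MvPolynomial (Fin N) (MvPolynomial (Fin N) S) := map C with hev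
  have key : ∀ l : CoordGrp.FormIdx N m,
      (∑ p : CoordGrp.FormIdx N m,
        monomial p.1 ((p.1.multinomial : S) * coeff l.1 (∏ i, lin g.transpose i ^ p.1 i)))
      = (l.1.multinomial : MvPolynomial (Fin N) S) * ∏ j, lin g j ^ l.1 j := by
    intro l
    rw [← coeff_sum_pow]
    have hsum : (∑ j, C (lin g j) * X j : MvPolynomial (Fin N) (MvPolynomial (Fin N) S))
        = ∑ i, C (X i) * ev (lin g.transpose i) := by
      simp only [hev, lin, map_sum, map_mul, map_C, map_X, Finset.mul_sum, Finset.sum_mul,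
        Matrix.transpose_apply]
      rw [Finset.sum_comm]
      exact Finset.sum_congr rfl fun i _ => Finset.sum_congr rfl fun j _ => by ring
    rw [hsum, sum_pow_formIdx, coeff_sum]
    refine Finset.sum_congr rfl fun p _ => ?_
    simp only [mul_pow, Finset.prod_mul_distrib, ← map_pow, ← map_prod]
    rw [← map_natCast (C : MvPolynomial (Fin N) S →+* MvPolynomial (Fin N) (MvPolynomial (Fin N) S)),
      ← mul_assoc, ← map_mul, coeff_C_mul, hev, coeff_map, prodX,
      ← map_natCast (C : S →+* MvPolynomial (Fin N) S), C_mul_monomial, mul_one,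
      mul_comm (monomial _ _), C_mul_monomial]
    rw [mul_comm]
  simp only [CoordGrp.formPoly, Finset.mul_sum, map_sum]
  rw [Finset.sum_comm]
  refine Finset.sum_congr rfl fun l _ => ?_
  have h1 : ∀ p : CoordGrp.FormIdx N m,
      monomial p.1 ((p.1.multinomial : S) * (v l * coeff l.1 (∏ i, lin g.transpose i ^ p.1 i)))
        = C (v l) *
          monomial p.1 ((p.1.multinomial : S) * coeff l.1 (∏ i, lin g.transpose i ^ p.1 i)) := by
    intro p
    rw [C_mul_monomial, mul_left_comm]
  simp only [h1, ← Finset.mul_sum, key]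
  rw [show monomial l.1 ((l.1.multinomial : S) * v l)
      = C ((l.1.multinomial : S) * v l) * monomial l.1 1 from by rw [C_mul_monomial, mul_one],
    map_mul, sub, algHom_C, aeval_monomial, map_one, one_mul,
    Finsupp.prod_fintype _ _ (fun i => pow_zero _), algebraMap_eq, map_mul, map_natCast]
  ring

theorem map_formPoly {T : Type w} [CommRing T] (f : S →+* T) {m : ℕ}
    (v : CoordGrp.FormIdx N m → S) :
    map f (CoordGrp.formPoly v) = CoordGrp.formPoly (fun p => f (v p)) := by
  simp [CoordGrp.formPoly]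

theorem isHomogeneous_formPoly {m : ℕ} (v : CoordGrp.FormIdx N m → S) :
    (CoordGrp.formPoly v).IsHomogeneous m :=
  IsHomogeneous.sum _ _ _ fun p _ => isHomogeneous_monomial _ p.2

end Multinomial

section Orbit

variable {k : Type u} [Field k] {N m : ℕ}

/-- `O(M_N) → O(SL_N)` -/
abbrev toSL (N : ℕ) (k : Type u) [Field k] : CoordGrp.Mat N k →ₐc[k] CoordGrp.SLn N k :=
  (CoordGrp.SLn.mkHom N k).comp (CoordGrp.Mat.toGLn N k)

theorem toSL_X (i j : Fin N) : toSL N k (CoordGrp.Mat.X i j) = CoordGrp.SLn.X i j := by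
  show CoordGrp.SLn.mk N k (CoordGrp.Mat.toGLn N k (CoordGrp.Mat.X i j)) = _
  rw [CoordGrp.Mat.toGLn_X]
  rfl

/-- the orbit morphism of a point of the space of forms under `SL_N` -/
abbrev orb (a : CoordGrp.FormIdx N m → k) : CoordGrp.FormRing k N m →ₐ[k] CoordGrp.SLn N k :=
  @GLin.orbitHom k _ (CoordGrp.SLn N k) _ _ (CoordGrp.FormRing k N m) _ _
    (GLin.comodAlong (toSL N k) (CoordGrp.formsCoact k N m))
    (GLin.isCoactAlg_comodAlong (toSL N k) (CoordGrp.formsCoact k N m)
      (CoordGrp.formsCoact_isCoactAlg k N m))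
    (GLin.vecPt k (CoordGrp.FormIdx N m) a)

theorem orb_X (a : CoordGrp.FormIdx N m → k) (p : CoordGrp.FormIdx N m) :
    orb a (X p) = ∑ l, a l • toSL N k (CoordGrp.formCoeff k N m l p) := by
  show (Algebra.TensorProduct.lid k _) (Algebra.TensorProduct.map (GLin.vecPt k _ a) (AlgHom.id k _)
    (TensorProduct.map LinearMap.id (toSL N k : CoordGrp.Mat N k →ₗ[k] CoordGrp.SLn N k)
      (CoordGrp.formsCoactAlg k N m (X p)))) = _
  rw [CoordGrp.formsCoactAlg_X]
  simp [GLin.vecPt]

/-- the matrix of a point of `SL_N` -/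
def ptMat {B : Type v} [CommRing B] [Algebra k B] (φ : CoordGrp.SLn N k →ₐ[k] B) :
    Matrix (Fin N) (Fin N) B := Matrix.of fun i j => φ (CoordGrp.SLn.X i j)

theorem apply_formCoeff {B : Type u} [CommRing B] [Algebra k B] (φ : CoordGrp.Mat N k →ₐ[k] B)
    (l p : CoordGrp.FormIdx N m) :
    φ (CoordGrp.formCoeff k N m l p) =
      coeff l.1 (∏ i, lin (Matrix.of fun i j => φ (CoordGrp.Mat.X i j)).transpose i ^ p.1 i) := by
  classical
  let Θ : MvPolynomial (Fin N) k ⊗[k] CoordGrp.Mat N k →ₐ[k] MvPolynomial (Fin N) B :=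
    Algebra.TensorProduct.lift (mapAlgHom (Algebra.ofId k B))
      ((IsScalarTower.toAlgHom k B (MvPolynomial (Fin N) B)).comp φ) (fun _ _ => mul_comm _ _)
  have hcoeff : ∀ w, coeff l.1 (Θ w) = φ (CoordGrp.coeffT (k := k) l.1 w) := by
    intro w
    induction w using TensorProduct.induction_on with
    | zero => simp
    | tmul q a =>
      rw [CoordGrp.coeffT_tmul, map_smul, Algebra.smul_def]
      show coeff l.1 (Θ (q ⊗ₜ[k] a)) = _
      rw [show Θ (q ⊗ₜ[k] a) = MvPolynomial.map (algebraMap k B) q * C (φ a) from rfl,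
        mul_comm, coeff_C_mul, coeff_map, mul_comm]
    | add x y hx hy => simp only [map_add, coeff_add, hx, hy]
  have hX : Θ.comp (CoordGrp.stdCoactAlg N k) =
      aeval fun i => lin (Matrix.of fun i j => φ (CoordGrp.Mat.X i j)).transpose i := by
    apply algHom_ext
    intro i
    rw [AlgHom.comp_apply, CoordGrp.stdCoactAlg_X, aeval_X, map_sum, lin]
    refine Finset.sum_congr rfl fun j _ => ?_
    show MvPolynomial.map (algebraMap k B) (X j) * C (φ (CoordGrp.Mat.X j i)) = _
    rw [map_X, mul_comm]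
    rfl
  rw [CoordGrp.formCoeff_def, ← hcoeff, ← AlgHom.comp_apply, hX, aeval_monomial, map_one, one_mul,
    Finsupp.prod_fintype _ _ (fun i => pow_zero _)]

theorem formPoly_orb (a : CoordGrp.FormIdx N m → k) {B : Type u} [CommRing B] [Algebra k B]
    (φ : CoordGrp.SLn N k →ₐ[k] B) :
    CoordGrp.formPoly (fun p => φ (orb a (X p))) =
      sub (ptMat φ) (map (algebraMap k B) (CoordGrp.formPoly a)) := by
  rw [map_formPoly, ← formPoly_moved]
  congr 1
  funext p
  rw [orb_X, map_sum]
  refine Finset.sum_congr rfl fun l _ => ?_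
  rw [map_smul, Algebra.smul_def]
  congr 1
  have h := apply_formCoeff (φ.comp (toSL N k : CoordGrp.Mat N k →ₐ[k] CoordGrp.SLn N k)) l p
  have hm : (Matrix.of fun i j =>
      (φ.comp (toSL N k : CoordGrp.Mat N k →ₐ[k] CoordGrp.SLn N k)) (CoordGrp.Mat.X i j))
      = ptMat φ := by
    ext i j
    show φ (toSL N k (CoordGrp.Mat.X i j)) = _
    rw [toSL_X]
    rfl
  rw [hm] at h
  exact h

theorem det_ptMat {B : Type v} [CommRing B] [Algebra k B] (φ : CoordGrp.SLn N k →ₐ[k] B) :
    (ptMat φ).det = 1 := by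
  have h := congrArg φ (CoordGrp.SLn.det_eq_one (n := N) (k := k))
  rw [map_one, CoordGrp.GLn.det_eq, AlgHom.map_det, AlgHom.map_det] at h
  exact h

theorem ptMat_pt {B : Type u} [CommRing B] [Algebra k B] (M : Matrix (Fin N) (Fin N) B)
    (h : M.det = 1) : ptMat (CoordGrp.SLn.pt N k M h) = M := by
  ext i j
  simp [ptMat]

end Orbit

end Groth.Agent.GIT36
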