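import Groth.Prelude.Def_DerSch
import Groth.Agent.LCI19.TorDim
import Groth.Agent.DR39.Restrict
import Groth.Agent.WE24.TorDim
import Groth.Agent.WE91.Local
import Groth.Agent.QC70.UnitSub
import Mathlib.RingTheory.RingHom.StandardSmooth
import Mathlib.AlgebraicGeometry.Morphisms.Smooth

/-!
Flat over the base, mapped to a smooth scheme of relative dimension `n`: tor dimension at most `n`.
-/

set_option autoImplicit false
set_option linter.style.haveILetI false
set_option backward.isDefEq.respectTransparency.types false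

universe u

open CategoryTheory CategoryTheory.Limits AlgebraicGeometry

attribute [local instance] HasDerivedCategory.standard

namespace Groth.Agent.GIT36.TorDim

open DR39

section Alg

variable {A : Type u} [CommRing A] {M : Type u} [AddCommGroup M] [Module A M]

theorem isZero_tor_of_ta {d : ℕ} (h : TA (-(d : ℤ)) 0 (Dual.inD A M)) (N : ModuleCat.{u} A) (p : ℕ)
    (hp : d < p) : IsZero (((CategoryTheory.Tor (ModuleCat.{u} A) p).obj N).obj (ModuleCat.of A M)) := by
  obtain ⟨F, hFb, hFp, ⟨eF⟩, hiff⟩ := isZero_Tor_iff N (ModuleCat.of A M) p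
  exact hiff.2 (((ta_iff _ 0 F (isKFlat_of_flat 0 hFb fun i => flat_of_PR (hFp i)) eF).1 h).2 N _ (by omega))

theorem ta_of_isZero_tor {d : ℕ}
    (h : ∀ (N : ModuleCat.{u} A) (p : ℕ), d < p →
      IsZero (((CategoryTheory.Tor (ModuleCat.{u} A) p).obj N).obj (ModuleCat.of A M))) :
    TA (-(d : ℤ)) 0 (Dual.inD A M) := by
  obtain ⟨E, hEv, hE, ⟨e⟩⟩ := exists_free_res (A := A) M
  have hEk := isKFlat_of_flat 0 hEv fun i => flat_of_FR (hE i)
  rw [ta_iff _ 0 E hEk e]
  refine ⟨acyc_inD M (m := 0 + 1) (by omega), fun N i hi => ?_⟩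
  obtain ⟨p, rfl⟩ : ∃ p : ℕ, i = -(p : ℤ) := ⟨(-i).toNat, by omega⟩
  obtain ⟨F, hFb, hFp, ⟨eF⟩, hiff⟩ := isZero_Tor_iff N (ModuleCat.of A M) p
  obtain ⟨f⟩ := tensor_iso (isKFlat_of_flat 0 hFb fun j => flat_of_PR (hFp j)) hEk (eF ≪≫ e.symm) N
    (-(p : ℤ))
  exact (hiff.1 (h N p (by omega))).of_iso f.symm

theorem ta_of_weaklyEtale {B : Type u} [CommRing B] [Algebra A B] [Algebra.WeaklyEtale A B] [Module B M]
    [IsScalarTower A B M] {d : ℕ} (h : TA (-(d : ℤ)) 0 (Dual.inD A M)) :
    TA (-(d : ℤ)) 0 (Dual.inD B M) := by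
  refine ta_of_isZero_tor fun N p hp => ?_
  obtain ⟨q, rfl⟩ : ∃ q, p = d + q + 1 := ⟨p - d - 1, by omega⟩
  exact WE24.isZero_tor_ascends B d M (fun L => isZero_tor_of_ta h L (d + 1) (by omega)) N q

end Alg

theorem ta_stalk {S X Y : Scheme.{u}} {p : X ⟶ S} {q : Y ⟶ S} (f : X ⟶ Y) (hf : f ≫ q = p) (n : ℕ)
    [SmoothOfRelativeDimension n q] [Flat p] (x : X) :
    letI := (f.stalkMap x).hom.toAlgebra
    TA (-(n : ℤ)) 0 (Dual.inD (Y.presheaf.stalk (f x)) (X.presheaf.stalk x)) := by
  subst hf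
  obtain ⟨U, hU, V, hV, hyV, e, hstd⟩ :=
    SmoothOfRelativeDimension.exists_isStandardSmoothOfRelativeDimension (n := n) (f := q) (f x)
  obtain ⟨g, hgC, hg⟩ := hstd.exists_etale_mvPolynomial
  have hsU : q (f x) ∈ U := e hyV
  let R₀ := Γ(S, U)
  let A := Y.presheaf.stalk (f x)
  let B := X.presheaf.stalk x
  let P := MvPolynomial (Fin n) R₀
  letI : Algebra A B := (f.stalkMap x).hom.toAlgebra
  letI : Algebra P Γ(Y, V) := g.toAlgebra
  letI : Algebra Γ(Y, V) A := (Y.presheaf.germ V (f x) hyV).hom.toAlgebra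
  letI : Algebra P A := ((algebraMap Γ(Y, V) A).comp g).toAlgebra
  have : IsScalarTower P Γ(Y, V) A := IsScalarTower.of_algebraMap_eq fun _ => rfl
  have : Algebra.Etale P Γ(Y, V) := RingHom.etale_algebraMap.mp hg
  have : IsLocalization.AtPrime A (hV.primeIdealOf ⟨f x, hyV⟩).asIdeal := hV.isLocalization_stalk ⟨f x, hyV⟩
  have : Algebra.WeaklyEtale Γ(Y, V) A :=
    WE91.weaklyEtale_of_isLocalization Γ(Y, V) A (hV.primeIdealOf ⟨f x, hyV⟩).asIdeal.primeCompl
  have : Algebra.WeaklyEtale P A := Algebra.WeaklyEtale.trans P Γ(Y, V) A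
  letI : Algebra P B := ((algebraMap A B).comp (algebraMap P A)).toAlgebra
  have : IsScalarTower P A B := IsScalarTower.of_algebraMap_eq fun _ => rfl
  letI : Algebra R₀ B := ((algebraMap P B).comp MvPolynomial.C).toAlgebra
  have : IsScalarTower R₀ P B := IsScalarTower.of_algebraMap_eq fun _ => rfl
  have hflat : Module.Flat R₀ B := by
    letI : Algebra R₀ (S.presheaf.stalk (q (f x))) := (S.presheaf.germ U _ hsU).hom.toAlgebra
    have : IsLocalization.AtPrime (S.presheaf.stalk (q (f x))) (hU.primeIdealOf ⟨q (f x), hsU⟩).asIdeal :=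
      hU.isLocalization_stalk ⟨q (f x), hsU⟩
    letI : Algebra (S.presheaf.stalk (q (f x))) B := ((f ≫ q).stalkMap x).hom.toAlgebra
    have : Module.Flat (S.presheaf.stalk (q (f x))) B := Flat.stalkMap (f ≫ q) x
    have : IsScalarTower R₀ (S.presheaf.stalk (q (f x))) B := by
      refine IsScalarTower.of_algebraMap_eq fun r => ?_
      change f.stalkMap x (Y.presheaf.germ V (f x) hyV (g (MvPolynomial.C r))) =
        (f ≫ q).stalkMap x (S.presheaf.germ U _ hsU r)
      rw [← RingHom.comp_apply g MvPolynomial.C, hgC, Scheme.Hom.stalkMap_comp]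
      refine Eq.trans ?_ (CommRingCat.comp_apply _ _ _).symm
      refine congrArg _ ?_
      refine Eq.trans ?_ (Scheme.Hom.germ_stalkMap_apply q U (f x) hsU r).symm
      exact TopCat.Presheaf.germ_res_apply _ _ _ hyV _
    have : Module.Flat R₀ (S.presheaf.stalk (q (f x))) :=
      IsLocalization.flat _ (hU.primeIdealOf ⟨q (f x), hsU⟩).asIdeal.primeCompl
    exact Module.Flat.trans R₀ (S.presheaf.stalk (q (f x))) B
  have h1 := LCI19.ta_mvPolynomial n (A := R₀) B (d := 0) (by simpa using ta_inD_of_flat (A := R₀) B)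
  exact ta_of_weaklyEtale (A := P) (B := A) (d := n) (by simpa using h1)

theorem hasTorDimLE {S X Y : Scheme.{u}} {p : X ⟶ S} {q : Y ⟶ S} (f : X ⟶ Y) (hf : f ≫ q = p) (n : ℕ)
    [SmoothOfRelativeDimension n q] [Flat p] : DerSch.HasTorDimLE f n := by
  intro x
  letI := (f.stalkMap x).hom.toAlgebra
  refine TA.of_iso (ta_stalk f hf n x) ?_
  let e : (DerSch.stalkOver f x).obj (Coh.structureModule X) ≅
      ModuleCat.of (Y.presheaf.stalk (f x)) (X.presheaf.stalk x) :=
    (ModuleCat.restrictScalars (f.stalkMap x).hom).mapIso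
        (show (DerSch.stalkFunctor X x).obj (Coh.structureModule X) ≅
          ModuleCat.of (X.presheaf.stalk x) (X.presheaf.stalk x) from
          (QC70.unitStalkEquiv x).symm.toModuleIso) ≪≫
      (show (ModuleCat.restrictScalars (f.stalkMap x).hom).obj (ModuleCat.of (X.presheaf.stalk x)
          (X.presheaf.stalk x)) ≅ ModuleCat.of (Y.presheaf.stalk (f x)) (X.presheaf.stalk x) from
        LinearEquiv.toModuleIso { AddEquiv.refl _ with map_smul' := fun _ _ => rfl })
  refine (DerivedCategory.singleFunctor (ModuleCat.{u} (Y.presheaf.stalk (f x))) 0).mapIso e.symm ≪≫ ?_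
  exact DerivedCategory.Q.mapIso
    ((HomologicalComplex.singleMapHomologicalComplex (DerSch.stalkOver f x) (ComplexShape.up ℤ) 0).app
      (Coh.structureModule X)).symm

end Groth.Agent.GIT36.TorDim
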